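import Cfsg.Agent.Lib.Co1Local.Data
import Cfsg.Agent.Lib.Co1Out.Basic
import Cfsg.Agent.Lib.Leech.MatCert
import Cfsg.Agent.Lib.Leech.Co1

/-!
The elements of the matrices and their action on listed vectors, and the projection on the first Conway group.
-/

set_option autoImplicit false
set_option maxRecDepth 10000

namespace Cfsg.Agent.Co1Local

open Cfsg Cfsg.Agent.Golay Cfsg.Agent.Leech Finset
open Cfsg.Agent.Co1Out (Gen el el_spec GenOK prodEl)

theorem rowDot_eq_dotL : ∀ r l : List ℤ, SporPerm.rowDot r l = MatCert.dotL r l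
  | [], _ => by simp [SporPerm.rowDot, MatCert.dotL]
  | _ :: _, [] => by simp [SporPerm.rowDot, MatCert.dotL]
  | a :: r, b :: l => by rw [SporPerm.rowDot, MatCert.dotL, rowDot_eq_dotL r l]

theorem smul_el {M : List (List ℤ)} (hM : SporPerm.matOK M = true) {a b : List ℤ} (ha : MatCert.latB a = true)
    (hb : MatCert.latB b = true) (h : MatCert.imgL M a = b) :
    el M • MatCert.latV a ha = MatCert.latV b hb := by
  refine Subtype.ext ?_
  rw [el_spec hM]
  show SporPerm.mapMat _ (MatCert.toVec a) = MatCert.toVec b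
  subst h
  refine (SporPerm.mapMat_toVec (Co1Out.shapeOK_of_matOK hM) (MatCert.latB_length ha)).trans ?_
  funext p
  simp [MatCert.imgL, rowDot_eq_dotL, LeechMod.toVec, MatCert.toVec]

theorem finite_Co0 : Finite Co0 := Nat.finite_of_card_ne_zero (by rw [card_Co0]; norm_num)

/-- The projection on the quotient by the centre. -/
noncomputable def pr : Co0 →* Spor.Co1 := QuotientGroup.mk' (Subgroup.center Co0)

theorem negCo0_comm (g : Co0) : negCo0 * g = g * negCo0 :=
  (Subgroup.mem_center_iff.1 (mem_center_iff.2 (Or.inr rfl)) g).symm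

theorem negCo0_sq : negCo0 * negCo0 = 1 :=
  co0_ext fun i => by rw [mul_smul, negCo0_smul, negCo0_smul, neg_neg, one_smul]

theorem pr_eq {a b : Co0} : pr a = pr b ↔ a = b ∨ a = negCo0 * b := by
  rw [pr, QuotientGroup.mk'_apply, QuotientGroup.mk'_apply, eq_comm, QuotientGroup.eq, mem_center_iff,
    inv_mul_eq_one, inv_mul_eq_iff_eq_mul, ← negCo0_comm, eq_comm]

theorem pr_eq_one {a : Co0} : pr a = 1 ↔ a = 1 ∨ a = negCo0 := by
  rw [← map_one pr, pr_eq, mul_one]

theorem pr_neg : pr negCo0 = 1 := pr_eq_one.2 (Or.inr rfl)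

end Cfsg.Agent.Co1Local
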