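import Cfsg.Agent.Lib.Co1Local.EltV

/-!
An upper bound for the centraliser of the element of order seven.
-/

set_option autoImplicit false
set_option maxRecDepth 20000
set_option Elab.async false

namespace Cfsg.Agent.Co1Local

open Cfsg Cfsg.Agent.Golay Cfsg.Agent.Leech Finset MatCert
open Cfsg.Agent.PermCert (allBelow allBelow_spec)
open PairStab (yc yv y_in fixedL)

/-- A fixed list. -/
def fx (j : ℕ) : List ℤ := fixedV.getD j []

/-- The checks on the fixed lists. -/
def fixedOK : Bool :=
  allBelow (fun j => latB (fx j)) 24 &&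
    allBelow (fun j => Nat.beq (j % 6) 5 || eqL (imgL gMat (fx j)) (fx (j + 1))) 24 &&
    eqL (fx 0) (fixedL.getD 0 []) && eqL (fx 3) (fixedL.getD 1 []) &&
    allBelow (fun k => eqL (fx (6 * (k + 1))) (decV (yc (basePos.getD k 0)))) 3

theorem fixed_all : fixedOK = true := by decide +kernel

theorem fx_in (j : Fin 24) : latB (fx j) = true := by
  have := fixed_all
  simp only [fixedOK, Bool.and_eq_true] at this
  exact allBelow_spec _ _ this.1.1.1.1 j j.2

/-- A fixed vector. -/
noncomputable def fv (j : Fin 24) : leechLattice := latV (fx j) (fx_in j)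

theorem fv_step {i j : Fin 24} (hj : (j : ℕ) = i + 1) (h : (i : ℕ) % 6 ≠ 5) : g7 • fv i = fv j := by
  have := fixed_all
  simp only [fixedOK, Bool.and_eq_true] at this
  have h2 := allBelow_spec _ _ this.1.1.1.2 i i.2
  simp only [Bool.or_eq_true, Nat.beq_eq, eqL, decide_eq_true_eq] at h2
  have he := h2.resolve_left h
  exact smul_el g_ok.1 _ _ (he.trans (by rw [hj]))

theorem fv_zero : fv 0 = stdA ∧ fv 3 = -stdB := by
  have := fixed_all
  simp only [fixedOK, Bool.and_eq_true, eqL, decide_eq_true_eq] at this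
  have h : (∀ p : GolayPt, ((if p = none then (4 : ℤ) else 0) + if p = some 0 then 4 else 0) = toVec (fixedL.getD 0 []) p) ∧
      ∀ p : GolayPt, -((if p = none then (4 : ℤ) else 0) + if p = some 1 then 4 else 0) = toVec (fixedL.getD 1 []) p := by
    decide +kernel
  constructor
  · refine Subtype.ext (funext fun p => ?_)
    show toVec (fx 0) p = _
    rw [this.1.1.2, ← h.1 p, stdA_apply]
  · refine Subtype.ext (funext fun p => ?_)
    show toVec (fx 3) p = _
    rw [this.1.2, ← h.2 p, AddSubgroup.coe_neg, Pi.neg_apply, stdB, pairV_apply]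
    simp

/-- A position has the inner products of a base vector with the earlier orbits. -/
def hasKey (k i : ℕ) : Bool :=
  allBelow (fun j => decide (dotL (fx j) (decV (yc i)) = dotL (fx j) (decV (yc (basePos.getD k 0))))) (6 * (k + 1))

/-- The checks on a level. -/
def levelOK (k : ℕ) : Bool :=
  Nat.blt (basePos.getD k 0) 891 &&
    Nat.ble ((List.range 891).countP fun i => hasKey k i) (baseCount.getD k 0) &&
    decide (dotL (fx 0) (decV (yc (basePos.getD k 0))) = 16 ∧ dotL (fx 3) (decV (yc (basePos.getD k 0))) = 0 ∧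
      dotL (decV (yc (basePos.getD k 0))) (decV (yc (basePos.getD k 0))) = 32)

theorem levels_ok : allBelow levelOK 3 = true := by decide +kernel

/-- The pointwise stabiliser of the first base orbits in the centraliser. -/
noncomputable def levelGrp : ℕ → Subgroup Co0
  | 0 => Subgroup.centralizer {g7} ⊓ MulAction.stabilizer Co0 stdA
  | k + 1 => levelGrp k ⊓ MulAction.stabilizer Co0 (fv (Fin.ofNat 24 (6 * (k + 1))))

theorem levelGrp_comm : ∀ (k : ℕ) {g : Co0}, g ∈ levelGrp k → g * g7 = g7 * g
  | 0, g, hg => Subgroup.mem_centralizer_singleton_iff.1 hg.1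
  | k + 1, g, hg => levelGrp_comm k hg.1

theorem levelGrp_base : ∀ (k : ℕ) {g : Co0}, g ∈ levelGrp k → ∀ m, m ≤ k →
    g • fv (Fin.ofNat 24 (6 * m)) = fv (Fin.ofNat 24 (6 * m))
  | 0, g, hg, m, hm => by
    obtain rfl : m = 0 := by omega
    show g • fv 0 = fv 0
    rw [fv_zero.1]
    exact hg.2
  | k + 1, g, hg, m, hm => by
    rcases eq_or_lt_of_le hm with rfl | hlt
    · exact hg.2
    · exact levelGrp_base k hg.1 m (by omega)

theorem levelGrp_fix : ∀ (k : ℕ), k < 4 → ∀ {g : Co0}, g ∈ levelGrp k → ∀ j : Fin 24, (j : ℕ) < 6 * (k + 1) →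
    g • fv j = fv j := by
  intro k hk g hg j hj
  have hc := levelGrp_comm k hg
  have base := levelGrp_base k hg
  obtain ⟨j, hj24⟩ := j
  induction j with
  | zero => exact base 0 (Nat.zero_le _)
  | succ j ih =>
    by_cases h : j % 6 = 5
    · have e : (⟨j + 1, hj24⟩ : Fin 24) = Fin.ofNat 24 (6 * ((j + 1) / 6)) := Fin.ext (by
        simp only [Fin.val_ofNat]
        omega)
      rw [e]
      exact base _ (by simp only at hj; omega)
    · rw [← fv_step (i := ⟨j, by omega⟩) rfl h, ← mul_smul, hc, mul_smul,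
        ih (by omega) (by simp only at hj ⊢; omega)]

theorem base_mem {k : ℕ} (hk : k < 3) :
    ∃ hb : basePos.getD k 0 < 891, fv (Fin.ofNat 24 (6 * (k + 1))) = yv ⟨_, hb⟩ := by
  have h := allBelow_spec _ _ levels_ok k hk
  have hf := fixed_all
  simp only [fixedOK, levelOK, Bool.and_eq_true, Nat.blt_eq] at h hf
  refine ⟨h.1.1, Subtype.ext ?_⟩
  have := allBelow_spec _ _ hf.2 k hk
  show toVec (fx ((Fin.ofNat 24 (6 * (k + 1)) : Fin 24) : ℕ)) = toVec (decV (yc _))
  rw [Fin.val_ofNat, Nat.mod_eq_of_lt (by omega), of_decide_eq_true this]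

theorem level_step {k : ℕ} (hk : k < 3) :
    Nat.card (levelGrp k) ≤ baseCount.getD k 0 * Nat.card (levelGrp (k + 1)) := by
  have h := allBelow_spec _ _ levels_ok k hk
  simp only [levelOK, Bool.and_eq_true, Nat.ble_eq, decide_eq_true_eq] at h
  obtain ⟨⟨-, hcount⟩, hd0, hd3, hd⟩ := h
  obtain ⟨hb, hfv⟩ := base_mem hk
  classical
  haveI := finite_Co0
  let T : Finset leechLattice := ((univ : Finset (Fin 891)).filter fun i : Fin 891 => hasKey k (i : ℕ) = true).image yv
  refine le_trans (Five.card_le_mul_stab (levelGrp k) (fv (Fin.ofNat 24 (6 * (k + 1)))) T T.finite_toSet ?_)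
    (Nat.mul_le_mul_right _ ?_)
  swap
  · rw [Set.ncard_coe_finset]
    refine card_image_le.trans (le_trans ?_ hcount)
    rw [List.countP_eq_length_filter,
      ← List.toFinset_card_of_nodup ((List.nodup_range (n := 891)).filter _),
      ← card_map Fin.valEmbedding]
    refine card_le_card fun i hi => ?_
    simp only [mem_map, mem_filter, mem_univ, true_and, Fin.valEmbedding_apply] at hi
    obtain ⟨i, hi, rfl⟩ := hi
    simp [hi, i.2]
  intro g hg
  have hfix := levelGrp_fix k (by omega) hg
  have hip : ∀ j : Fin 24, (j : ℕ) < 6 * (k + 1) →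
      ip (fv j) (g • yv ⟨_, hb⟩) = dotL (fx j) (decV (yc (basePos.getD k 0))) / 8 := fun j hj => by
    conv_lhs => rw [← hfix j hj, co0_ip]
    rw [fv, yv, Five.ip_latV]
  have hnorm : ip (g • yv ⟨_, hb⟩) (g • yv ⟨_, hb⟩) = 4 := by
    rw [co0_ip, yv, Five.ip_latV, hd]
    rfl
  obtain ⟨i, hi⟩ := PairStab.pair_set_complete hnorm
    (by rw [← fv_zero.1, hip 0 (by simp)]; show dotL (fx 0) _ / 8 = 2; rw [hd0]; rfl)
    (by rw [← fv_zero.2, hip 3 (by show 3 < _; omega)]; show dotL (fx 3) _ / 8 = 0; rw [hd3]; rfl)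
  rw [hfv]
  simp only [T, coe_image, Set.mem_image, coe_filter, mem_univ, true_and, Set.mem_ofPred_eq]
  refine ⟨i, PairStab.allBelow_of fun j hj => decide_eq_true ?_, hi⟩
  have e := hip ⟨j, by omega⟩ hj
  rw [← hi, fv, yv, Five.ip_latV] at e
  have h1 := eight_ip (fv ⟨j, by omega⟩) (yv i)
  have h2 := eight_ip (fv ⟨j, by omega⟩) (yv ⟨_, hb⟩)
  rw [fv, yv, Five.ip_latV] at h1 h2
  change _ = dotInt (toVec (fx j)) (toVec (decV (yc i))) at h1
  change _ = dotInt (toVec (fx j)) (toVec (decV (yc (basePos.getD k 0)))) at h2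
  rw [← dotL_vec (latB_length (fx_in ⟨j, by omega⟩)) (latB_length (y_in _))] at h1
  rw [← dotL_vec (latB_length (fx_in ⟨j, by omega⟩)) (latB_length (y_in ⟨_, hb⟩))] at h2
  simp only at e h1 h2
  omega

/-- The inverse of the base. -/
def invOK : Bool :=
  allBelow (fun i => allBelow (fun k => decide (((List.range 24).map fun j =>
    (fx j).getD i 0 * (baseInv.getD j []).getD k 0).sum = if i = k then baseDen else 0)) 24) 24

theorem inv_all : invOK = true := by decide +kernel

theorem levelGrp_top : levelGrp 3 = ⊥ := by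
  refine (Subgroup.eq_bot_iff_forall _).2 fun g hg => ?_
  have hfix := levelGrp_fix 3 (by norm_num) hg
  refine Subtype.ext (Equiv.ext fun v => ?_)
  show g • v = v
  set c : Fin 24 → ℤ := fun j => ∑ k : Fin 24, (baseInv.getD j []).getD k 0 * (v : GolayPt → ℤ) (pt k) with hc
  have e : baseDen • v = ∑ j : Fin 24, c j • fv j := by
    refine Subtype.ext (funext fun p => ?_)
    simp only [AddSubgroup.coe_zsmul, AddSubgroup.val_finsetSum, Finset.sum_apply, Pi.smul_apply, smul_eq_mul, hc,
      sum_mul]
    rw [sum_comm]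
    have hrow : ∀ k : Fin 24, ∑ j : Fin 24, (fx j).getD (idx p) 0 * (baseInv.getD j []).getD k 0 =
        if idx p = (k : ℕ) then baseDen else 0 := fun k => by
      have := allBelow_spec _ _ (allBelow_spec _ _ inv_all (idx p) (idx_lt p)) k k.2
      rw [decide_eq_true_eq] at this
      rw [← this]
      exact (Five.list_sum_range 24 fun j => (fx j).getD (idx p) 0 * (baseInv.getD j []).getD k 0).symm
    have : ∀ k : Fin 24, ∑ j : Fin 24, (baseInv.getD j []).getD k 0 * (v : GolayPt → ℤ) (pt k) *
        ((fv j : leechLattice) : GolayPt → ℤ) p = (if idx p = (k : ℕ) then baseDen else 0) * (v : GolayPt → ℤ) (pt k) :=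
      fun k => by
        rw [← hrow k, sum_mul]
        refine sum_congr rfl fun j _ => ?_
        show _ * _ * (fx j).getD (idx p) 0 = _
        ring
    rw [sum_congr rfl fun k _ => this k, sum_eq_single ⟨idx p, idx_lt p⟩]
    · rw [if_pos rfl, pt_idx]
    · intro k _ hk
      rw [if_neg fun q => hk (Fin.ext q.symm), zero_mul]
    · simp
  obtain ⟨f, hf⟩ := Five.co0_hom g
  have h2 : baseDen • (g • v) = baseDen • v := by
    rw [← hf, ← map_zsmul, e, map_sum]
    refine sum_congr rfl fun j _ => ?_
    rw [map_zsmul, hf, hfix j (by have := j.2; omega)]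
  refine Subtype.ext (funext fun p => ?_)
  have := congrFun (congrArg Subtype.val h2) p
  simp only [AddSubgroup.coe_zsmul, Pi.smul_apply, smul_eq_mul] at this
  exact mul_left_cancel₀ (by decide) this

theorem card_centralizer_g7 : Nat.card (Subgroup.centralizer ({g7} : Set Co0)) < 70560 := by
  haveI := finite_Co0
  have hbot : Nat.card (levelGrp 3) = 1 := by rw [levelGrp_top, Subgroup.card_bot]
  have hq : qv stdA = -2 := by
    rw [qv, g7_cube, ← fv_zero.1, show g7 ^ 3 = g7 * (g7 * g7) by simp [pow_succ, mul_assoc], mul_smul, mul_smul,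
      fv_step (i := 0) (j := 1) rfl (by decide), fv_step (i := 1) (j := 2) rfl (by decide),
      fv_step (i := 2) (j := 3) rfl (by decide), fv, fv, Five.ip_latV]
    decide +kernel
  have h0 := Five.card_le_mul_stab (Subgroup.centralizer ({g7} : Set Co0)) stdA
    ((min4.filter fun v => qv v = -2 : Finset leechLattice) : Set leechLattice)
    (Finset.finite_toSet _) (fun g hg => by
      simp only [mem_coe, mem_filter, mem_min4]
      exact ⟨(co0_ip _ _ _).trans ip_stdA,
        (qv_comm (Subgroup.mem_centralizer_singleton_iff.1 hg) _).trans hq⟩)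
  rw [Set.ncard_coe_finset] at h0
  have h0' : _ ≤ 23506 * Nat.card (levelGrp 0) := h0.trans (Nat.mul_le_mul_right _ minus_two_few)
  have s0 : Nat.card (levelGrp 0) ≤ 1 * Nat.card (levelGrp 1) := level_step (by norm_num)
  have s1 : Nat.card (levelGrp 1) ≤ 3 * Nat.card (levelGrp 2) := level_step (by norm_num)
  have s2 : Nat.card (levelGrp 2) ≤ 1 * Nat.card (levelGrp 3) := level_step (by norm_num)
  omega

end Cfsg.Agent.Co1Local
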