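import Cfsg.Agent.Lib.Co1Local.DataW
import Cfsg.Agent.Lib.Golay.M24
import Cfsg.Agent.Lib.Leech.FiveBound

/-!
The centraliser in the Mathieu group of a permutation of cycle type three to the eighth power has at most 504 elements.
-/

set_option autoImplicit false
set_option maxRecDepth 20000
set_option linter.style.haveILetI false
set_option Elab.async false

namespace Cfsg.Agent.Co1Local

open Cfsg Cfsg.Agent.Golay Finset
open Cfsg.Agent.PermCert (allBelow allBelow_spec validElt get)
open scoped Pointwise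

/-- The permutation of order three. -/
def sigP : Equiv.Perm GolayPt := permOf sigElt

theorem sig_valid : (validElt 5 24 sigElt && isAutB sigElt) = true := by decide +kernel

theorem sig_ok : validElt 5 24 sigElt = true ∧ isAutB sigElt = true := by
  simpa using sig_valid

theorem sigP_mem : sigP ∈ M24 := permOf_mem_M24 sig_ok.1 sig_ok.2

/-- Disjoint from the image. -/
def transB (m : ℕ) : Bool := Nat.beq (popCount (imgMask sigElt m &&& m) 24) 0

/-- The octads disjoint from their images and meeting no other such octad in two points. -/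
def specialList : List ℕ :=
  let T := octadList.filter transB
  T.filter fun o => T.all fun x => !Nat.beq (popCount (o &&& x) 24) 2

theorem special_eq : (specialList.all fun o => memB o trioList) = true ∧
    memB (trioList.getD 2 0) specialList = true := by decide +kernel

/-- The special octad through the first point. -/
def octA : ℕ := trioList.getD 2 0

theorem trio_facts : (trioList.all fun o => !o.testBit 0 || Nat.beq o octA) = true ∧ octA.testBit 0 = true ∧
    octA.testBit ptB = true ∧ popCount octA 24 = 8 ∧ ptB < 24 ∧ ptB ≠ 0 := by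
  decide +kernel

/-- The orbit of a point. -/
def orb3 (i : ℕ) : List ℕ := [i, get 5 sigElt.1 i, get 5 sigElt.1 (get 5 sigElt.1 i)]

theorem six_facts : allBelow (fun i => !sixMask.testBit i || (orb3 0 ++ orb3 ptB).contains i) 24 = true ∧
    popCount regQ 24 = 3 ∧ ptQ < 24 ∧ sixMask.testBit ptQ = false ∧
    stepOK [] sixMask ptQ octQ regQ = true ∧ rigidOK [] (sixMask ||| (1 <<< ptQ)) rigidQ = true := by
  decide +kernel

/-- Disjoint from its image. -/
def Trans (S : Finset GolayPt) : Prop := S ∈ octads ∧ sigP • S ∩ S = ∅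

/-- Special. -/
def Special (S : Finset GolayPt) : Prop := Trans S ∧ ∀ X, Trans X → (S ∩ X).card ≠ 2

theorem trans_iff {m : ℕ} (hm : m ∈ octadList) : Trans (maskSet m) ↔ transB m = true := by
  rw [Trans, transB, Nat.beq_eq, ← card_maskSet, maskSet_and, ← maskSet_imgMask sig_ok.1, ← sigP,
    Finset.card_eq_zero]
  exact ⟨fun h => h.2, fun h => ⟨mem_octads.2 ⟨m, hm, rfl⟩, h⟩⟩

theorem special_mem {S : Finset GolayPt} (h : Special S) : ∃ o ∈ trioList, maskSet o = S := by
  obtain ⟨m, hm, rfl⟩ := mem_octads.1 h.1.1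
  refine ⟨m, memB_spec (List.all_eq_true.1 special_eq.1 m ?_), rfl⟩
  simp only [specialList, List.mem_filter, List.all_eq_true, Bool.not_eq_true', Bool.eq_false_iff, Ne, Nat.beq_eq]
  refine ⟨⟨hm, (trans_iff hm).1 h.1⟩, fun x hx => ?_⟩
  rw [← card_maskSet, maskSet_and]
  exact h.2 _ ((trans_iff hx.1).2 hx.2)

theorem special_octA : Special (maskSet octA) := by
  have h := memB_spec special_eq.2
  simp only [specialList, List.mem_filter, List.all_eq_true, Bool.not_eq_true', Bool.eq_false_iff, Ne, Nat.beq_eq] at h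
  refine ⟨(trans_iff h.1.1).2 h.1.2, fun X hX => ?_⟩
  obtain ⟨x, hx, rfl⟩ := mem_octads.1 hX.1
  rw [← maskSet_and, card_maskSet]
  exact h.2 x ⟨hx, (trans_iff hx).1 hX⟩

theorem trans_smul {π : Equiv.Perm GolayPt} (hπ : π ∈ M24) (hc : Commute π sigP) {S : Finset GolayPt}
    (h : Trans S) : Trans (π • S) := by
  refine ⟨smul_mem_octads hπ h.1, ?_⟩
  rw [← mul_smul, ← hc.eq, mul_smul, ← Finset.smul_finset_inter, h.2, Finset.smul_finset_empty]

theorem special_smul {π : Equiv.Perm GolayPt} (hπ : π ∈ M24) (hc : Commute π sigP) {S : Finset GolayPt}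
    (h : Special S) : Special (π • S) := by
  refine ⟨trans_smul hπ hc h.1, fun X hX => ?_⟩
  have h2 := h.2 _ (trans_smul (inv_mem hπ) hc.inv_left hX)
  rwa [← Finset.card_smul_finset π, Finset.smul_finset_inter, smul_inv_smul] at h2

/-- A point. -/
def pN (i : ℕ) : GolayPt := pt (Fin.ofNat 24 i)

theorem idx_pN {i : ℕ} (h : i < 24) : idx (pN i) = i := by
  rw [pN, idx_pt, Fin.val_ofNat, Nat.mod_eq_of_lt h]

theorem pN_idx (p : GolayPt) : pN (idx p) = p := idx_injective (idx_pN (idx_lt p))

theorem sigP_pN {i : ℕ} (h : i < 24) : idx (sigP (pN i)) = get 5 sigElt.1 i := by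
  rw [sigP, idx_permOf sig_ok.1, idx_pN h]

/-- The centraliser. -/
noncomputable def centW : Subgroup (Equiv.Perm GolayPt) := M24 ⊓ Subgroup.centralizer {sigP}

theorem mem_centW {π : Equiv.Perm GolayPt} : π ∈ centW ↔ π ∈ M24 ∧ Commute π sigP :=
  ⟨fun h => ⟨h.1, Subgroup.mem_centralizer_singleton_iff.1 h.2⟩,
    fun h => ⟨h.1, Subgroup.mem_centralizer_singleton_iff.2 h.2⟩⟩

theorem card_centW : Nat.card centW ≤ 504 := by
  classical
  obtain ⟨t1, t2, t3, t4, t5, t6⟩ := trio_facts
  obtain ⟨s1, s2, s3, s4, s5, s6⟩ := six_facts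
  set K1 := centW ⊓ MulAction.stabilizer (Equiv.Perm GolayPt) (pN 0)
  set K2 := K1 ⊓ MulAction.stabilizer (Equiv.Perm GolayPt) (pN ptB)
  set K3 := K2 ⊓ MulAction.stabilizer (Equiv.Perm GolayPt) (pN ptQ)
  have h1 : Nat.card centW ≤ 24 * Nat.card K1 := by
    refine (Leech.Five.card_le_mul_stab centW (pN 0) Set.univ (Set.toFinite _) fun _ _ => trivial).trans ?_
    rw [Set.ncard_univ, Nat.card_eq_fintype_card (α := GolayPt)]
    exact le_of_eq (by rw [show Fintype.card GolayPt = 24 from rfl])
  have hfix : ∀ g ∈ K1, g • maskSet octA = maskSet octA := by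
    rintro g ⟨hg, hga⟩
    obtain ⟨o, ho, he⟩ := special_mem (special_smul (mem_centW.1 hg).1 (mem_centW.1 hg).2 special_octA)
    have h0 : pN 0 ∈ g • maskSet octA := by
      have hga' : g • pN 0 = pN 0 := hga
      have := Finset.smul_mem_smul_finset (a := g) (show pN 0 ∈ maskSet octA from
        mem_maskSet.2 (by rw [idx_pN (by norm_num)]; exact t2))
      rwa [hga'] at this
    rw [← he, mem_maskSet, idx_pN (by norm_num)] at h0
    have := List.all_eq_true.1 t1 o ho
    simp only [h0, Bool.not_true, Bool.false_or, Nat.beq_eq] at this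
    rw [← he, this]
  have h2 : Nat.card K1 ≤ 7 * Nat.card K2 := by
    refine (Leech.Five.card_le_mul_stab K1 (pN ptB) (((maskSet octA).erase (pN 0) : Finset GolayPt) : Set GolayPt)
      (Finset.finite_toSet _) fun g hg => ?_).trans (Nat.mul_le_mul_right _ ?_)
    · simp only [coe_erase, Set.mem_diff, mem_coe, Set.mem_singleton_iff]
      refine ⟨?_, fun e => t6 ?_⟩
      · rw [← hfix g hg]
        exact Finset.smul_mem_smul_finset (mem_maskSet.2 (by rw [idx_pN t5]; exact t3))
      · have : pN ptB = pN 0 := MulAction.injective g (e.trans (show g • pN 0 = pN 0 from hg.2).symm)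
        simpa [idx_pN t5, idx_pN (show 0 < 24 by norm_num)] using congrArg idx this
    · rw [Set.ncard_coe_finset, card_erase_of_mem (mem_maskSet.2 (by rw [idx_pN (by norm_num)]; exact t2)),
        card_maskSet, t4]
  have hsix : ∀ g ∈ K2, ∀ p ∈ maskSet sixMask, g p = p := by
    rintro g ⟨⟨hg, hga⟩, hgb⟩ p hp
    have hc := (mem_centW.1 hg).2
    have step : ∀ q, g q = q → g (sigP q) = sigP q := fun q hq => by
      have := congrArg (fun r : Equiv.Perm GolayPt => r q) hc.eq
      simpa [Equiv.Perm.mul_apply, hq] using this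
    have horb : ∀ i < 24, g (pN i) = pN i → ∀ j ∈ orb3 i, g (pN j) = pN j := by
      intro i hi hgi j hj
      have e1 : sigP (pN i) = pN (get 5 sigElt.1 i) := by rw [← sigP_pN hi, pN_idx]
      have hlt : get 5 sigElt.1 i < 24 := sigP_pN hi ▸ idx_lt _
      have e2 : sigP (pN (get 5 sigElt.1 i)) = pN (get 5 sigElt.1 (get 5 sigElt.1 i)) := by
        rw [← sigP_pN hlt, pN_idx]
      simp only [orb3, List.mem_cons, List.not_mem_nil, or_false] at hj
      rcases hj with rfl | rfl | rfl
      · exact hgi
      · exact e1 ▸ step _ hgi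
      · exact e2 ▸ step _ (e1 ▸ step _ hgi)
    have := allBelow_spec _ _ s1 (idx p) (idx_lt p)
    simp only [mem_maskSet.1 hp, Bool.not_true, Bool.false_or, List.contains_iff_mem, List.mem_append] at this
    rw [← pN_idx p]
    exact this.elim (horb 0 (by norm_num) hga _) (horb ptB t5 hgb _)
  have hM : ∀ g ∈ K2, g ∈ stabIn [] := fun g hg => by rw [stabIn_nil]; exact (mem_centW.1 hg.1.1).1
  have hq : pt ⟨ptQ, s3⟩ = pN ptQ := idx_injective (by rw [idx_pt, idx_pN s3])
  have h3 : Nat.card K2 ≤ 3 * Nat.card K3 := by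
    refine (Leech.Five.card_le_mul_stab K2 (pN ptQ) ((maskSet regQ : Finset GolayPt) : Set GolayPt)
      (Finset.finite_toSet _) fun g hg => ?_).trans (Nat.mul_le_mul_right _ ?_)
    · have := stepOK_spec (hM g hg) (hsix g hg) s5 s3 s4
      rw [hq] at this
      exact mem_maskSet.2 this
    · rw [Set.ncard_coe_finset, card_maskSet, s2]
  have h4 : K3 = ⊥ := (Subgroup.eq_bot_iff_forall _).2 fun g hg =>
    rigidOK_spec _ _ s6 g (hM g hg.1) fun p hp => by
      rw [maskSet_insert s3, Finset.mem_insert] at hp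
      rcases hp with rfl | hp
      · rw [hq]; exact hg.2
      · exact hsix g hg.1 p hp
  rw [h4, Subgroup.card_bot] at h3
  omega

end Cfsg.Agent.Co1Local
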