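import Cfsg.Agent.Lib.Co1Local.CertW
import Cfsg.Agent.Lib.Co1Local.PermW
import Cfsg.Agent.Lib.Co1Local.Basic
import Cfsg.Agent.Lib.Co1Out.Elems
import Cfsg.Agent.Lib.Leech.Conway

/-!
An upper bound for the centraliser of the element of order three: its orbit on crosses and the monomial part.
-/

set_option autoImplicit false
set_option maxRecDepth 20000
set_option linter.style.haveILetI false
set_option Elab.async false

namespace Cfsg.Agent.Co1Local

open Cfsg Cfsg.Agent.Golay Cfsg.Agent.Leech Finset MatCert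
open Cfsg.Agent.Co1Out (el el_spec)
open Cfsg.Agent.LatticeMod2 (Cong)
open Cfsg.Agent.PermCert (allBelow allBelow_spec)
open scoped Pointwise

/-- The element of order three. -/
noncomputable def w3 : Co0 := el wMat

theorem w_perm : Co1Out.permMatOK wMat sigElt = true := by decide +kernel

/-- The permutation in the Mathieu group. -/
noncomputable def sigM : M24 := ⟨sigP, sigP_mem⟩

theorem w3_eq : w3 = permHom sigM := by
  obtain ⟨_, h⟩ := Co1Out.perm_el w_ok.1 w_perm
  exact h

theorem w3_axis (p : GolayPt) : w3 • axis p = axis (sigP p) := by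
  rw [w3_eq]
  exact (mono_axis (sigM, 0) p).trans (by simp [sgn, sigM])

/-- The invariant words. -/
def invWords : List ℕ := codeList.filter fun m => Nat.beq (imgMask sigElt m) m

theorem invWords_len : invWords.length ≤ 16 := by decide +kernel

theorem invariant_words {c : GolayPt → ZMod 2} (hc : c ∈ golayCode) (h : ∀ q, c (sigP q) = c q) :
    ∃ m ∈ invWords, ofMask m = c := by
  obtain ⟨m, hm, rfl⟩ := mem_golayCode.1 hc
  suffices h' : imgMask sigElt m = m by
    exact ⟨m, List.mem_filter.2 ⟨hm, by rw [Nat.beq_eq]; exact h'⟩, rfl⟩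
  have hlt := lt_of_mem_codeList hm
  refine maskSet_inj (mkMask_lt _ _) hlt ?_
  rw [← maskSet_imgMask sig_ok.1, ← sigP]
  ext q
  obtain ⟨r, rfl⟩ := sigP.surjective q
  rw [show sigP r ∈ sigP • maskSet m ↔ r ∈ maskSet m from Finset.smul_mem_smul_finset_iff _, mem_maskSet,
    mem_maskSet]
  have := h r
  simp only [ofMask] at this
  cases e1 : m.testBit (idx r) <;> cases e2 : m.testBit (idx (sigP r)) <;> simp [e1, e2] at this ⊢

theorem card_cross_part :
    Nat.card (Subgroup.centralizer ({w3} : Set Co0) ⊓ crossStab : Subgroup Co0) ≤ 8064 := by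
  classical
  set H : Subgroup Co0 := Subgroup.centralizer ({w3} : Set Co0) ⊓ crossStab
  have key : ∀ g : H, ∃ a : M24 × golayCode, mono a = (g : Co0) ∧ (a.1 : Equiv.Perm GolayPt) ∈ centW ∧
      ∃ m ∈ invWords, ofMask m = (a.2 : GolayPt → ZMod 2) := by
    intro g
    obtain ⟨a, ha⟩ := fixesStd_iff.1 (mem_crossStab.1 g.2.2)
    have hg := Subgroup.mem_centralizer_singleton_iff.1 g.2.1
    rw [← ha, w3_eq] at hg
    obtain ⟨h1, h2⟩ := mono_commute hg
    exact ⟨a, ha, mem_centW.2 ⟨a.1.2, congrArg Subtype.val h1⟩, invariant_words a.2.2 h2⟩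
  choose a ha hp hw using key
  choose m hm hmw using hw
  let f : H → centW × {m : ℕ // m ∈ invWords.toFinset} := fun g =>
    (⟨_, hp g⟩, ⟨m g, List.mem_toFinset.2 (hm g)⟩)
  have hf : Function.Injective f := by
    intro g h e
    simp only [f, Prod.mk.injEq, Subtype.mk.injEq] at e
    refine Subtype.ext ((ha g).symm.trans ((congrArg mono ?_).trans (ha h)))
    exact Prod.ext (Subtype.ext e.1) (Subtype.ext (by rw [← hmw g, ← hmw h, e.2]))
  have h1 := Nat.card_le_card_of_injective f hf
  rw [Nat.card_prod, Nat.card_eq_finsetCard] at h1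
  have h2 := invWords.toFinset_card_le.trans invWords_len
  have := h1.trans (Nat.mul_le_mul card_centW h2)
  omega

/-! ### The orbit on crosses -/

/-- The sum of the images of a list. -/
def trL (l : List ℤ) (i : ℕ) : ℤ :=
  l.getD i 0 + (imgL wMat l).getD i 0 + (imgL wMat (imgL wMat l)).getD i 0

/-- The checks on one generator. -/
def traceOK (l : List ℤ) (t : ℕ × List ℤ) : Bool :=
  latB (imgL wMat l) && latB (imgL wMat (imgL wMat l)) && latB t.2 &&
    allBelow (fun i => decide (trL l i = ((List.range 8).map fun k =>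
      (if t.1.testBit k then 1 else 0) * (fixB.getD k []).getD i 0).sum + 2 * t.2.getD i 0)) 24

theorem traces_ok : allBelow (fun j => traceOK (genL.getD j []) (fixCert.getD j (0, []))) genL.length = true := by
  decide +kernel

theorem fixB_in (k : Fin 8) : latB (fixB.getD k []) = true := by
  revert k; decide +kernel

/-- A representative. -/
noncomputable def fb (k : Fin 8) : leechLattice := latV _ (fixB_in k)

/-- A combination of the representatives. -/
noncomputable def comb (e : Fin 8 → ℤ) : leechLattice := ∑ k, e k • fb k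

/-- The sum over an orbit. -/
noncomputable def tr3 (v : leechLattice) : leechLattice := v + w3 • v + w3 • w3 • v

theorem cong_add {x y a b : leechLattice} (h : Cong x a) (h' : Cong y b) : Cong (x + y) (a + b) := by
  obtain ⟨u, hu⟩ := h
  obtain ⟨v, hv⟩ := h'
  exact ⟨u + v, by rw [smul_add, ← hu, ← hv]; abel⟩

theorem tr3_add (x y : leechLattice) : tr3 (x + y) = tr3 x + tr3 y := by
  rw [tr3, tr3, tr3, co0_add, co0_add]; abel

theorem tr3_neg (x : leechLattice) : tr3 (-x) = -tr3 x := by
  rw [tr3, tr3, co0_neg, co0_neg]; abel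

theorem tr3_zero : tr3 0 = 0 := by
  have := tr3_add 0 0
  rwa [add_zero, left_eq_add] at this

theorem comb_zero : comb 0 = 0 := by simp [comb]

theorem comb_add (e f : Fin 8 → ℤ) : comb (e + f) = comb e + comb f := by simp [comb, add_smul, sum_add_distrib]

theorem comb_neg (e : Fin 8 → ℤ) : comb (-e) = -comb e := by simp [comb, neg_smul, sum_neg_distrib]

set_option maxHeartbeats 1000000 in
theorem tr3_class (v : leechLattice) : ∃ e : Fin 8 → ℤ, Cong (tr3 v) (comb e) := by
  let T : AddSubgroup (GolayPt → ℤ) :=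
    { carrier := {x | ∃ hx : x ∈ leechLattice, ∃ e : Fin 8 → ℤ, Cong (tr3 ⟨x, hx⟩) (comb e)}
      zero_mem' := ⟨zero_mem _, 0, 0, (congrArg₂ (· - ·) tr3_zero comb_zero).trans (by rw [sub_zero, smul_zero])⟩
      add_mem' := by
        rintro x y ⟨hx, e, he⟩ ⟨hy, f, hf⟩
        refine ⟨add_mem hx hy, e + f, ?_⟩
        have h := cong_add he hf
        rw [← tr3_add, ← comb_add] at h
        exact h
      neg_mem' := by
        rintro x ⟨hx, e, u, hu⟩
        refine ⟨neg_mem hx, -e, -u, ?_⟩
        have h : tr3 (-(⟨x, hx⟩ : leechLattice)) - comb (-e) = 2 • -u := by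
          rw [tr3_neg, comb_neg, smul_neg, ← hu]; abel
        exact h }
  have hle : span ≤ T := by
    refine (AddSubgroup.closure_le _).2 ?_
    rintro _ ⟨l, hl, rfl⟩
    obtain ⟨j, hj, rfl⟩ := List.getElem_of_mem hl
    have h0 := List.all_eq_true.1 genL_ok _ hl
    have h := allBelow_spec _ _ traces_ok j hj
    rw [List.getD_eq_getElem _ _ hj] at h
    simp only [traceOK, Bool.and_eq_true] at h
    obtain ⟨⟨⟨h1, h2⟩, h3⟩, h4⟩ := h
    refine ⟨latB_spec h0, fun k => if (fixCert.getD j (0, [])).1.testBit k then 1 else 0, latV _ h3, ?_⟩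
    have e1 : w3 • latV genL[j] h0 = latV _ h1 := smul_el w_ok.1 _ _ rfl
    have e2 : w3 • w3 • latV genL[j] h0 = latV _ h2 := by rw [e1]; exact smul_el w_ok.1 _ _ rfl
    refine Subtype.ext (funext fun p => ?_)
    have := allBelow_spec _ _ h4 (idx p) (idx_lt p)
    rw [decide_eq_true_eq] at this
    show ((tr3 (latV genL[j] h0) - comb _ : leechLattice) : GolayPt → ℤ) p = _
    rw [tr3, e2, e1]
    simp only [AddSubgroup.coe_sub, AddSubgroup.coe_add, AddSubgroup.coe_nsmul, comb, AddSubgroup.val_finsetSum,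
      AddSubgroup.coe_zsmul, Pi.sub_apply, Pi.add_apply, Finset.sum_apply, Pi.smul_apply, nsmul_eq_mul]
    have hs : ∀ k : Fin 8, ((if (fixCert.getD j (0, [])).1.testBit k then (1 : ℤ) else 0) •
        ((fb k : leechLattice) : GolayPt → ℤ) p) =
        (if (fixCert.getD j (0, [])).1.testBit k then (1 : ℤ) else 0) * (fixB.getD k []).getD (idx p) 0 :=
      fun k => rfl
    rw [sum_congr rfl fun k _ => hs k]
    rw [Five.list_sum_range 8 fun k =>
      (if (fixCert.getD j (0, [])).1.testBit k then (1 : ℤ) else 0) * (fixB.getD k []).getD (idx p) 0] at this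
    simp only [trL] at this
    show (genL[j].getD (idx p) 0 + (imgL wMat genL[j]).getD (idx p) 0 +
      (imgL wMat (imgL wMat genL[j])).getD (idx p) 0) - _ = ((2 : ℕ) : ℤ) * (fixCert.getD j (0, [])).2.getD (idx p) 0
    push_cast
    linarith
  obtain ⟨_, h⟩ := hle (leech_le v.2)
  exact h

theorem class_of_orbit {g : Co0} (hg : g * w3 = w3 * g) :
    ∃ e : Fin 8 → Fin 2, Cong (g • axis none) (comb fun k => ((e k : ℕ) : ℤ)) := by
  set x := g • axis none with hx
  have hw : Cong (w3 • x) x := by
    rw [hx, ← mul_smul, ← hg, mul_smul, w3_axis, co0_cong_iff]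
    exact cong_axis _ _
  have hw2 : Cong (w3 • w3 • x) x := cong_trans ((co0_cong_iff (g := w3)).2 hw) hw
  obtain ⟨e, he⟩ := tr3_class x
  have h1 : Cong x (tr3 x) := by
    obtain ⟨u, hu⟩ := hw
    obtain ⟨v, hv⟩ := hw2
    refine ⟨-(x + u + v), ?_⟩
    rw [tr3, sub_eq_iff_eq_add.1 hv, sub_eq_iff_eq_add.1 hu]
    abel
  refine ⟨fun k => ⟨((e k) % 2).toNat, by omega⟩, cong_trans h1 (cong_trans he ⟨∑ k, (e k / 2) • fb k, ?_⟩)⟩
  rw [comb, comb, ← sum_sub_distrib, smul_sum]
  refine sum_congr rfl fun k _ => ?_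
  rw [← sub_smul, ← smul_assoc]
  congr 1
  simp only [Int.toNat_of_nonneg (Int.emod_nonneg _ (show (2 : ℤ) ≠ 0 by norm_num)), nsmul_eq_mul]
  push_cast
  omega

theorem card_centralizer_w3 : Nat.card (Subgroup.centralizer ({w3} : Set Co0)) < 2177280 := by
  classical
  haveI := finite_Co0
  let F : (Fin 8 → Fin 2) → Set leechLattice := fun e => xCross (comb fun k => ((e k : ℕ) : ℤ))
  have h0 := Five.card_le_mul_stab (Subgroup.centralizer ({w3} : Set Co0)) (xCross (axis none)) (Set.range F)
    (Set.finite_range F) (fun g hg => by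
      obtain ⟨e, he⟩ := class_of_orbit (Subgroup.mem_centralizer_singleton_iff.1 hg)
      refine ⟨e, ?_⟩
      rw [smul_xCross]
      ext y
      exact ⟨fun hy => ⟨hy.1, cong_trans he hy.2⟩, fun hy => ⟨hy.1, cong_trans (cong_symm he) hy.2⟩⟩)
  have hr : (Set.range F).ncard ≤ 256 := by
    rw [← Set.image_univ]
    refine (Set.ncard_image_le Set.finite_univ).trans ?_
    rw [Set.ncard_univ, Nat.card_fun, Nat.card_fin, Nat.card_fin]
    norm_num
  have := h0.trans (Nat.mul_le_mul hr (show Nat.card (Subgroup.centralizer ({w3} : Set Co0) ⊓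
    MulAction.stabilizer Co0 (xCross (axis none)) : Subgroup Co0) ≤ 8064 from card_cross_part))
  omega

end Cfsg.Agent.Co1Local
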