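import Cfsg.Agent.Lib.Co1Local.Basic

/-! Certificates for the element of order seven and the three-cycles centralising it. -/

set_option autoImplicit false
set_option maxRecDepth 20000
set_option Elab.async false

namespace Cfsg.Agent.Co1Local

open Cfsg.Agent.SporPerm Cfsg.Agent.LeechOrbit
open Cfsg.Agent.Co1Out (Gen sameOK)
open Cfsg.Agent.PermCert (allBelow)

/-- The element of order seven with its columns. -/
def gG : Gen := (gMat, gCols)

/-- The cube with its columns. -/
def g3G : Gen := (g3Mat, g3Cols)

/-- A three-cycle with its columns. -/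
def aG (i : ℕ) : Gen := aGens.getD i ([], [], 0)

theorem g_ok : matOK gMat = true ∧ smallOK gMat = true ∧ colsOK gMat gCols = true := by decide +kernel

theorem g3_ok : matOK g3Mat = true ∧ smallOK g3Mat = true ∧ colsOK g3Mat g3Cols = true := by decide +kernel

theorem a_ok : allBelow (fun i => matOK (aG i).1 && smallOK (aG i).1 && colsOK (aG i).1 (aG i).2) 5 = true := by
  decide +kernel

theorem g_rel : sameOK [gG, gG, gG, gG, gG, gG, gG] [] 1 = true ∧
    sameOK [gG, gG, gG] [g3G] 1 = true := by decide +kernel

theorem a_comm : allBelow (fun i => sameOK [gG, aG i] [aG i, gG] 1 && sameOK [aG i, aG i, aG i] [] 1) 5 = true := by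
  decide +kernel

theorem a_pair : allBelow (fun j => allBelow (fun i => sameOK [aG i, aG j, aG i, aG j] [] (-1)) j) 5 = true := by
  decide +kernel

end Cfsg.Agent.Co1Local
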