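import Cfsg.Agent.Lib.Co1Local.Basic

/-! Certificates for the element of order three and the three-cycles centralising it. -/

set_option autoImplicit false
set_option maxRecDepth 20000
set_option Elab.async false

namespace Cfsg.Agent.Co1Local

open Cfsg.Agent.SporPerm Cfsg.Agent.LeechOrbit
open Cfsg.Agent.Co1Out (Gen sameOK)
open Cfsg.Agent.PermCert (allBelow)

/-- The element of order three with its columns. -/
def wG : Gen := (wMat, wCols)

/-- The inverting involution with its columns. -/
def tauG : Gen := (tauMat, tauCols)

/-- A three-cycle with its columns. -/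
def bG (i : ℕ) : Gen := bGens.getD i ([], [], 0)

theorem w_ok : matOK wMat = true ∧ smallOK wMat = true ∧ colsOK wMat wCols = true := by decide +kernel

theorem tau_ok : matOK tauMat = true ∧ smallOK tauMat = true ∧ colsOK tauMat tauCols = true := by decide +kernel

theorem b_ok : allBelow (fun i => matOK (bG i).1 && smallOK (bG i).1 && colsOK (bG i).1 (bG i).2) 7 = true := by
  decide +kernel

theorem w_rel : sameOK [wG, wG, wG] [] 1 = true ∧ sameOK [tauG, tauG] [] 1 = true ∧
    sameOK [tauG, wG] [wG, wG, tauG] 1 = true := by decide +kernel

theorem b_comm : allBelow (fun i => sameOK [wG, bG i] [bG i, wG] 1 && sameOK [tauG, bG i] [bG i, tauG] 1 &&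
    sameOK [bG i, bG i, bG i] [] 1) 7 = true := by
  decide +kernel

theorem b_pair : allBelow (fun j => allBelow (fun i => sameOK [bG i, bG j, bG i, bG j] [] (-1)) j) 7 = true := by
  decide +kernel

end Cfsg.Agent.Co1Local
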