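import Mathlib

/-!
Lists for the centraliser of the monomial element of order three.
-/

set_option autoImplicit false

namespace Cfsg.Agent.Co1Local

/-- The coded permutation of the element of order three. -/
def sigElt : ℕ × ℕ := (110969155710001994394434861842962885, 269603474571716982274783311712279689)

/-- The three octads disjoint from their images. -/
def trioList : List ℕ := [843820, 4202192, 11731203]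

/-- The second point. -/
def ptB : ℕ := 1

/-- The seventh point. -/
def ptQ : ℕ := 2

/-- The six points. -/
def sixMask : ℕ := 16947

/-- The possible images of the seventh point. -/
def regQ : ℕ := 786436

/-- The octads determining that region. -/
def octQ : List ℕ := [786999]

/-- The remaining points with their octads. -/
def rigidQ : List (ℕ × List ℕ) :=
  [(3, [21116, 57883]),
  (6, [21116, 5279]),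
  (7, [18147, 75309]),
  (8, [262637, 10558]),
  (10, [18147]),
  (11, [10558, 36294]),
  (12, [5279]),
  (13, [10558]),
  (15, [36294]),
  (16, [69395]),
  (17, [133817]),
  (18, [262637]),
  (19, [525274]),
  (20, [1050548]),
  (21, [2101096]),
  (22, [4196943]),
  (23, [])]

/-- Representatives of the classes of fixed vectors. -/
def fixB : List (List ℤ) :=
  [[3, 3, -1, 3, 3, 3, -1, 3, 3, 3, 3, 3, 3, 3, 3, 3, 3, 3, 3, 3, 3, 3, 3, -1],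
  [4, 2, 6, 0, 2, 4, 6, 0, 2, 4, 2, 2, 0, 2, 2, 0, 2, 0, 2, 0, 0, 0, 0, 6],
  [4, 2, 4, 2, 2, 4, 4, 0, 2, 4, 0, 2, 2, 2, 2, 2, 0, 2, 0, 0, 0, 2, 2, 4],
  [4, 0, 2, 2, 0, 4, 2, 0, 4, 4, 2, 4, 2, 4, 0, 2, 2, 2, 2, 0, 0, 2, 2, 2],
  [4, 2, 2, 0, 2, 4, 2, 4, 2, 4, 2, 2, 0, 2, 2, 0, 2, 0, 2, 4, 4, 0, 0, 2],
  [2, 4, 2, 2, 4, 2, 2, 4, 2, 2, 0, 2, 2, 2, 4, 0, 0, 2, 0, 4, 4, 0, 0, 2],
  [4, 0, 4, 2, 0, 4, 4, 2, 2, 4, 2, 2, 2, 2, 0, 0, 2, 2, 2, 2, 2, 0, 0, 4],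
  [6, 2, 0, 4, 2, 6, 0, 2, 2, 6, 0, 2, 4, 2, 2, 0, 0, 4, 0, 2, 2, 0, 0, 0]]

/-- The classes of the traces of the generators. -/
def fixCert : List (ℕ × List ℤ) :=
  [(1, [0, 0, 0, 0, 0, 0, 0, 0, 0, 0, 0, 0, 0, 0, 0, 0, 0, 0, 0, 0, 0, 0, 0, 0]),
  (2, [0, 0, 0, 0, 0, 0, 0, 0, 0, 0, 0, 0, 0, 0, 0, 0, 0, 0, 0, 0, 0, 0, 0, 0]),
  (4, [0, 0, 0, 0, 0, 0, 0, 0, 0, 0, 0, 0, 0, 0, 0, 0, 0, 0, 0, 0, 0, 0, 0, 0]),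
  (8, [0, 0, 0, 0, 0, 0, 0, 0, 0, 0, 0, 0, 0, 0, 0, 0, 0, 0, 0, 0, 0, 0, 0, 0]),
  (16, [0, 0, 0, 0, 0, 0, 0, 0, 0, 0, 0, 0, 0, 0, 0, 0, 0, 0, 0, 0, 0, 0, 0, 0]),
  (32, [0, 0, 0, 0, 0, 0, 0, 0, 0, 0, 0, 0, 0, 0, 0, 0, 0, 0, 0, 0, 0, 0, 0, 0]),
  (64, [0, 0, 0, 0, 0, 0, 0, 0, 0, 0, 0, 0, 0, 0, 0, 0, 0, 0, 0, 0, 0, 0, 0, 0]),
  (128, [0, 0, 0, 0, 0, 0, 0, 0, 0, 0, 0, 0, 0, 0, 0, 0, 0, 0, 0, 0, 0, 0, 0, 0]),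
  (240, [-6, -2, -4, -4, -2, -6, -4, -6, -2, -6, 0, -2, -4, -2, -2, 0, 0, -4, 0, -6, -6, 0, 0, -4]),
  (168, [-6, -2, 0, -4, -2, -6, 0, -2, -2, -6, 0, -2, -4, -2, -2, 0, 0, -4, 0, -2, -2, 0, 0, 0]),
  (130, [-2, 0, -2, -2, 0, -2, -2, 0, -2, -2, 0, -2, -2, -2, 0, 0, 0, -2, 0, 0, 0, 0, 0, -2]),
  (46, [-6, -2, -6, -2, -2, -6, -6, -2, -2, -6, -2, -2, -2, -2, -2, -2, -2, -2, -2, -2, -2, -2, -2, -6]),
  (158, [-10, -2, -6, -2, -2, -10, -6, -2, -6, -10, -2, -6, -2, -6, -2, -2, -2, -2, -2, -2, -2, -2, -2, -6]),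
  (136, [-3, -1, 1, -3, -1, -3, 1, -1, -3, -3, -1, -3, -3, -3, -1, -1, -1, -3, -1, -1, -1, -1, -1, 1]),
  (134, [-7, -1, -3, -3, -1, -7, -3, -1, -3, -7, -1, -3, -3, -3, -1, -1, -1, -3, -1, -1, -1, -1, -1, -3]),
  (120, [-7, -3, -1, -3, -3, -7, -1, -5, -5, -7, -3, -5, -3, -5, -3, -1, -3, -3, -3, -5, -5, -1, -1, -1]),
  (148, [-7, -3, -1, -1, -3, -7, -1, -3, -3, -7, -1, -3, -1, -3, -3, -1, -1, -1, -1, -3, -3, -1, -1, -1]),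
  (134, [-7, -1, -3, -3, -1, -7, -3, -1, -3, -7, -1, -3, -3, -3, -1, -1, -1, -3, -1, -1, -1, -1, -1, -3]),
  (136, [-3, -1, 1, -3, -1, -3, 1, -1, -3, -3, -1, -3, -3, -3, -1, -1, -1, -3, -1, -1, -1, -1, -1, 1]),
  (120, [-7, -3, -1, -3, -3, -7, -1, -5, -5, -7, -3, -5, -3, -5, -3, -1, -3, -3, -3, -5, -5, -1, -1, -1]),
  (106, [-7, -3, -5, -3, -3, -7, -5, -1, -5, -7, -3, -5, -3, -5, -3, -1, -3, -3, -3, -1, -1, -1, -1, -5]),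
  (100, [-5, -3, -3, -3, -3, -5, -3, -3, -1, -5, -1, -1, -3, -1, -3, -1, -1, -3, -1, -3, -3, -1, -1, -3]),
  (136, [-3, -1, 1, -3, -1, -3, 1, -1, -3, -3, -1, -3, -3, -3, -1, -1, -1, -3, -1, -1, -1, -1, -1, 1]),
  (154, [-9, -3, -3, -3, -3, -9, -3, -3, -5, -9, -1, -5, -3, -5, -3, -1, -1, -3, -1, -3, -3, -1, -1, -3]),
  (100, [-5, -3, -3, -3, -3, -5, -3, -3, -1, -5, -1, -1, -3, -1, -3, -1, -1, -3, -1, -3, -3, -1, -1, -3]),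
  (148, [-7, -3, -1, -1, -3, -7, -1, -3, -3, -7, -1, -3, -1, -3, -3, -1, -1, -1, -1, -3, -3, -1, -1, -1]),
  (100, [-5, -3, -3, -3, -3, -5, -3, -3, -1, -5, -1, -1, -3, -1, -3, -1, -1, -3, -1, -3, -3, -1, -1, -3]),
  (134, [-7, -1, -3, -3, -1, -7, -3, -1, -3, -7, -1, -3, -3, -3, -1, -1, -1, -3, -1, -1, -1, -1, -1, -3]),
  (118, [-9, -5, -7, -3, -5, -9, -7, -5, -5, -9, -3, -5, -3, -5, -5, 1, -3, -3, -3, -5, -5, 1, 1, -7]),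
  (154, [-9, -3, -3, -3, -3, -9, -3, -3, -5, -9, -1, -5, -3, -5, -3, -1, -1, -3, -1, -3, -3, -1, -1, -3]),
  (148, [-7, -3, -1, -1, -3, -7, -1, -3, -3, -7, -1, -3, -1, -3, -3, -1, -1, -1, -1, -3, -3, -1, -1, -1]),
  (154, [-9, -3, -3, -3, -3, -9, -3, -3, -5, -9, -1, -5, -3, -5, -3, -1, -1, -3, -1, -3, -3, -1, -1, -3]),
  (106, [-7, -3, -5, -3, -3, -7, -5, -1, -5, -7, -3, -5, -3, -5, -3, -1, -3, -3, -3, -1, -1, -1, -1, -5]),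
  (106, [-7, -3, -5, -3, -3, -7, -5, -1, -5, -7, -3, -5, -3, -5, -3, -1, -3, -3, -3, -1, -1, -1, -1, -5]),
  (118, [-9, -5, -7, -3, -5, -9, -7, -5, -5, -9, -3, -5, -3, -5, -5, 1, -3, -3, -3, -5, -5, 1, 1, -7]),
  (118, [-9, -5, -7, -3, -5, -9, -7, -5, -5, -9, -3, -5, -3, -5, -5, 1, -3, -3, -3, -5, -5, 1, 1, -7]),
  (120, [-7, -3, -1, -3, -3, -7, -1, -5, -5, -7, -3, -5, -3, -5, -3, -1, -3, -3, -3, -5, -5, -1, -1, -1])]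

end Cfsg.Agent.Co1Local
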