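import Cfsg.Agent.Lib.Co1Local.CertV
import Cfsg.Agent.Lib.Leech.QuadMoments
import Cfsg.Agent.Lib.Leech.FiveBound

/-!
The element of order seven and the number of minimal vectors with inner product minus two with their third image.
-/

set_option autoImplicit false
set_option maxRecDepth 20000
set_option Elab.async false

namespace Cfsg.Agent.Co1Local

open Cfsg Cfsg.Agent.Golay Cfsg.Agent.Leech Finset MatCert
open Cfsg.Agent.Co1Out (el el_spec prodEl GenOK)
open Cfsg.Agent.PermCert (allBelow allBelow_spec)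

theorem exact_el {M : List (List ℤ)} (hM : SporPerm.matOK M = true) (v : leechLattice) :
    mulV M (v : GolayPt → ℤ) = 8 • ((el M • v : leechLattice) : GolayPt → ℤ) := by
  have hM' := hM
  simp only [SporPerm.matOK, Bool.and_eq_true] at hM'
  have hd := (SporPerm.dvd_and_mem hM'.1.1.1 hM'.1.2 v.2).1
  funext p
  rw [el_spec hM, Pi.smul_apply, SporPerm.mapMat, nsmul_eq_mul]
  have e : mulV M (v : GolayPt → ℤ) p = (SporPerm.toMat M).mulVec (v : GolayPt → ℤ) p := rfl
  rw [e]
  exact (Int.mul_ediv_cancel' (hd p)).symm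

/-- The element of order seven. -/
noncomputable def g7 : Co0 := el gMat

/-- The cube. -/
noncomputable def g73 : Co0 := el g3Mat

theorem gG_ok : GenOK gG := g_ok
theorem g3G_ok : GenOK g3G := g3_ok

theorem g7_pow : g7 ^ 7 = 1 := by
  have := Co1Out.eq_of_sameOK (Ls := [gG, gG, gG, gG, gG, gG, gG]) (Rs := []) (by simp [gG_ok]) (by simp) g_rel.1
  simpa [prodEl, pow_succ, mul_assoc, gG, g7] using this

theorem g7_cube : g73 = g7 ^ 3 := by
  have := Co1Out.eq_of_sameOK (Ls := [gG, gG, gG]) (Rs := [g3G]) (by simp [gG_ok]) (by simp [g3G_ok]) g_rel.2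
  simpa [prodEl, pow_succ, mul_assoc, gG, g3G, g7, g73] using this.symm

/-- The inner product with the third image. -/
noncomputable def qv (v : leechLattice) : ℤ := ip v (g73 • v)

theorem qv_comm {c : Co0} (hc : c * g7 = g7 * c) (v : leechLattice) : qv (c • v) = qv v := by
  have h : Commute c g73 := g7_cube ▸ (show Commute c g7 from hc).pow_right 3
  rw [qv, qv, ← mul_smul, ← h.eq, mul_smul, co0_ip]

/-- The matrix as a function of two points. -/
def qFun (p r : GolayPt) : ℤ := toVec (g3Mat.getD (idx p) []) r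

theorem quad_qFun (v : leechLattice) : quad qFun (v : GolayPt → ℤ) = 64 * qv v := by
  have e : quad qFun (v : GolayPt → ℤ) = ∑ p, (v : GolayPt → ℤ) p * mulV g3Mat (v : GolayPt → ℤ) p := by
    simp only [quad, mulV, dotInt, mul_sum, qFun]
    exact sum_congr rfl fun p _ => sum_congr rfl fun r _ => by ring
  rw [e, exact_el g3_ok.1]
  have h := eight_ip v (g73 • v)
  simp only [dotInt] at h
  simp only [Pi.smul_apply, nsmul_eq_mul, mul_left_comm ((v : GolayPt → ℤ) _), ← mul_sum]
  rw [show el g3Mat = g73 from rfl, ← h, qv]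
  push_cast
  ring

theorem qFun_sums : ∑ p, qFun p p = -32 ∧ ∑ p, ∑ r, qFun p r ^ 2 = 1536 ∧
    ∑ p, ∑ r, qFun p r * qFun r p = -256 := by
  refine ⟨?_, ?_, ?_⟩ <;> decide +kernel

theorem sum_qv : ∑ v ∈ min4, qv v * (qv v + 1) = 50400 := by
  have h1 := quad_moment_one qFun
  have h2 := quad_moment_two qFun
  simp only [quad_qFun, mul_pow, ← mul_sum, qFun_sums.1, qFun_sums.2.1, qFun_sums.2.2] at h1 h2
  simp only [mul_add, mul_one, sum_add_distrib, ← sq]
  norm_num at h1 h2
  linarith

/-- The checks on one coded pair. -/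
def pairOK (t : ℕ × ℕ) : Bool :=
  moveF g3Pack g3Rows t.1 t.2 && latC t.1 && latC t.2 && Nat.beq (encV (decV t.1)) t.1 &&
    decide (dotL (decV t.1) (decV t.1) = 32) && decide (dotL (decV t.1) (decV t.2) = 8)

/-- The first entries increase. -/
def incrL : List (ℕ × ℕ) → Bool
  | [] => true
  | [_] => true
  | a :: b :: l => Nat.blt a.1 b.1 && incrL (b :: l)

theorem pack_ok : packOK g3Mat g3Pack g3Rows = true := by decide +kernel

theorem one_chunks : allBelow (fun i => (oneCodes.getD i []).all pairOK) 17 = true := by decide +kernel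

theorem one_shape : oneCodes.length = 17 ∧ oneCodes.flatten.length = 1694 ∧ incrL oneCodes.flatten = true := by
  refine ⟨?_, ?_, ?_⟩ <;> decide +kernel

theorem one_ok {t : ℕ × ℕ} (ht : t ∈ oneCodes.flatten) : pairOK t = true := by
  obtain ⟨l, hl, htl⟩ := List.mem_flatten.1 ht
  obtain ⟨i, hi, rfl⟩ := List.getElem_of_mem hl
  have := allBelow_spec _ _ one_chunks i (one_shape.1 ▸ hi)
  rw [List.getD_eq_getElem _ _ hi] at this
  exact List.all_eq_true.1 this t htl

theorem incrL_pairwise : ∀ l : List (ℕ × ℕ), incrL l = true → (l.map Prod.fst).Pairwise (· < ·)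
  | [], _ => List.Pairwise.nil
  | [_], _ => List.pairwise_singleton _ _
  | a :: b :: l, h => by
    simp only [incrL, Bool.and_eq_true, Nat.blt_eq] at h
    have hp := incrL_pairwise _ h.2
    refine List.pairwise_cons.2 ⟨fun x hx => ?_, hp⟩
    rcases List.mem_cons.1 hx with rfl | hx
    · exact h.1
    · exact h.1.trans ((List.pairwise_cons.1 hp).1 x hx)

theorem one_many : 1694 ≤ (min4.filter fun v => qv v = 1).card := by
  classical
  let F : ℕ → leechLattice := fun c => if h : latB (decV c) = true then latV (decV c) h else 0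
  set L := oneCodes.flatten.map Prod.fst with hL
  have hmem : ∀ c ∈ L, ∃ h : latB (decV c) = true, encV (decV c) = c ∧ F c ∈ min4.filter fun v => qv v = 1 := by
    intro c hc
    obtain ⟨t, ht, rfl⟩ := List.mem_map.1 hc
    have := one_ok ht
    simp only [pairOK, Bool.and_eq_true, Nat.beq_eq, decide_eq_true_eq] at this
    obtain ⟨⟨⟨⟨⟨hm, ha⟩, hb⟩, he⟩, hn⟩, hd⟩ := this
    have ha' := latB_of_latC ha
    have hb' := latB_of_latC hb
    refine ⟨ha', he, mem_filter.2 ?_⟩
    simp only [F, dif_pos ha']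
    refine ⟨mem_min4.2 (by rw [Five.ip_latV, hn]; rfl), ?_⟩
    rw [qv, show g73 = el g3Mat from rfl, smul_pack (exact_el g3_ok.1) pack_ok ha' hb' hm, Five.ip_latV, hd]
    rfl
  have hnd : L.Nodup := (incrL_pairwise _ one_shape.2.2).imp fun h => h.ne
  have hinj : ∀ a ∈ L, ∀ b ∈ L, F a = F b → a = b := fun a ha b hb e => by
    obtain ⟨ha', ea, -⟩ := hmem a ha
    obtain ⟨hb', eb, -⟩ := hmem b hb
    simp only [F, dif_pos ha', dif_pos hb'] at e
    exact code_inj ha' hb' ea eb e
  have hc : (L.toFinset.image F).card = 1694 := by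
    rw [card_image_of_injOn (fun a ha b hb => hinj a (List.mem_toFinset.1 ha) b (List.mem_toFinset.1 hb)),
      List.toFinset_card_of_nodup hnd, hL, List.length_map, one_shape.2.1]
  rw [← hc]
  refine card_le_card fun v hv => ?_
  obtain ⟨c, hc', rfl⟩ := mem_image.1 hv
  obtain ⟨-, -, h⟩ := hmem c (List.mem_toFinset.1 hc')
  exact h

theorem minus_two_few : (min4.filter fun v => qv v = -2).card ≤ 23506 := by
  have h1 := one_many
  have hf : ∀ v : leechLattice, (0 : ℤ) ≤ qv v * (qv v + 1) := fun v => by nlinarith [sq_nonneg (2 * qv v + 1)]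
  have hs := sum_qv
  set A := min4.filter fun v => qv v = -2
  set B := min4.filter fun v => qv v = 1
  have hsub : A ∪ B ⊆ min4 := union_subset (filter_subset _ _) (filter_subset _ _)
  have hdis : Disjoint A B := disjoint_left.2 fun v ha hb => by
    have := (mem_filter.1 ha).2
    have := (mem_filter.1 hb).2
    omega
  have hle := sum_le_sum_of_subset_of_nonneg (f := fun v => qv v * (qv v + 1)) hsub fun v _ _ => hf v
  rw [sum_union hdis, sum_congr rfl (g := fun _ => (2 : ℤ)) fun v hv => by rw [(mem_filter.1 hv).2]; norm_num,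
    sum_congr rfl (s₁ := B) (g := fun _ => (2 : ℤ)) fun v hv => by rw [(mem_filter.1 hv).2]; norm_num,
    sum_const, sum_const] at hle
  simp only [nsmul_eq_mul] at hle
  omega

end Cfsg.Agent.Co1Local
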