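import Cfsg.Agent.Lib.BoundedPres.Kappa
import Mathlib

/-!
Embeddings of alternating groups from three-cycles, of the symmetric group of degree three, and of direct products.
-/

set_option autoImplicit false
set_option linter.style.haveILetI false

namespace Cfsg.Agent.Co1Local

open Equiv Cfsg.Agent.BoundedPres

variable {G : Type*} [Group G]

/-- The index set of the three-cycles through the first two points. -/
def restN (n : ℕ) : Finset (Fin n) := Finset.univ.filter fun i => 2 ≤ i.val

theorem alt_embed {n : ℕ} (hn : 5 ≤ n) (X : ℕ → G) (h3 : ∀ i < n - 2, X i ^ 3 = 1)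
    (h2 : ∀ i < n - 2, ∀ j < n - 2, i ≠ j → (X i * X j) ^ 2 = 1) (h1 : X 0 ≠ 1) :
    ∃ f : alternatingGroup (Fin n) →* G, Function.Injective f ∧
      ∀ c : G, (∀ i < n - 2, Commute c (X i)) → ∀ a, Commute c (f a) := by
  set a : Fin n := ⟨0, by omega⟩
  set b : Fin n := ⟨1, by omega⟩
  have hs : Good a b (restN n) := ⟨fun e => absurd (congrArg Fin.val e) (by simp [a, b]),
    by simp [restN, a], by simp [restN, b]⟩
  have hfull : ∀ x : Fin n, x ≠ a → x ≠ b → x ∈ restN n := fun x hxa hxb => by
    have e1 : x.val ≠ 0 := fun e => hxa (Fin.ext e)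
    have e2 : x.val ≠ 1 := fun e => hxb (Fin.ext e)
    simp [restN]; omega
  have hC := Cs_eq_alternating hs hfull
  let Y : Fin n → G := fun i => X (i.val - 2)
  have hY : CarRel Y (restN n) := by
    refine ⟨fun i hi => ?_, fun i hi j hj hij => ?_⟩
    · simp [restN] at hi
      exact h3 _ (by omega)
    · simp [restN] at hi hj
      refine h2 _ (by omega) _ (by omega) fun e => hij (Fin.ext (by omega))
  obtain ⟨f0, hf0⟩ := car_hom hs Y hY
  refine ⟨f0.comp (MulEquiv.subgroupCongr hC.symm).toMonoidHom, ?_, fun c hc x => ?_⟩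
  · haveI : IsSimpleGroup (alternatingGroup (Fin n)) := alternatingGroup.isSimpleGroup (by simpa using hn)
    rw [← MonoidHom.ker_eq_bot_iff]
    refine (MonoidHom.normal_ker _).eq_bot_or_eq_top.resolve_right fun e => h1 ?_
    have h2n : (⟨2, by omega⟩ : Fin n) ∈ restN n := by simp [restN]
    have := MonoidHom.mem_ker.1 (e ▸ Subgroup.mem_top ((MulEquiv.subgroupCongr hC)
      ⟨cyc a b ⟨2, by omega⟩, cyc_mem h2n⟩))
    simp only [MonoidHom.comp_apply, MulEquiv.toMonoidHom_eq_coe, MonoidHom.coe_coe] at this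
    rw [show X 0 = f0 ⟨cyc a b ⟨2, by omega⟩, cyc_mem h2n⟩ from (hf0 _ h2n).symm]
    exact this
  · show Commute c (f0 _)
    generalize (MulEquiv.subgroupCongr hC.symm).toMonoidHom x = y
    obtain ⟨y, hy⟩ := y
    refine Subgroup.closure_induction (p := fun z hz => Commute c (f0 ⟨z, hz⟩)) ?_ ?_ ?_ ?_ hy
    · rintro _ ⟨i, hi, rfl⟩
      rw [hf0 i (Finset.mem_coe.1 hi)]
      simp [restN] at hi
      exact hc _ (by omega)
    · exact (map_one f0).symm ▸ Commute.one_right c
    · intro u v hu hv e1 e2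
      exact (map_mul f0 ⟨u, hu⟩ ⟨v, hv⟩).symm ▸ e1.mul_right e2
    · intro u hu e1
      exact (map_inv f0 ⟨u, hu⟩).symm ▸ e1.inv_right

theorem prod_embed {A B : Type*} [Group A] [Group B] (hB : Subgroup.center B = ⊥) (φ : A →* G) (ψ : B →* G)
    (hφ : Function.Injective φ) (hψ : Function.Injective ψ) (hc : ∀ a b, Commute (φ a) (ψ b)) :
    Function.Injective (φ.noncommCoprod ψ hc) := by
  refine (injective_iff_map_eq_one _).2 ?_
  rintro ⟨a, b⟩ h
  rw [MonoidHom.noncommCoprod_apply] at h
  have hb : b ∈ Subgroup.center B := Subgroup.mem_center_iff.2 fun x => hψ (by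
    have e : ψ b = (φ a)⁻¹ := eq_inv_of_mul_eq_one_right h
    rw [map_mul, map_mul, e]
    exact ((hc a x).inv_left).eq.symm)
  rw [hB, Subgroup.mem_bot] at hb
  subst hb
  rw [map_one, mul_one] at h
  change φ a = 1 at h
  rw [hφ (h.trans (map_one φ).symm)]
  rfl

theorem alt_center {n : ℕ} (hn : 5 ≤ n) : Subgroup.center (alternatingGroup (Fin n)) = ⊥ := by
  haveI : IsSimpleGroup (alternatingGroup (Fin n)) := alternatingGroup.isSimpleGroup (by simpa using hn)
  refine (Subgroup.Normal.eq_bot_or_eq_top inferInstance).resolve_right fun e => ?_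
  have hcomm : ∀ x y : alternatingGroup (Fin n), x * y = y * x := fun x y =>
    Subgroup.mem_center_iff.1 (e ▸ Subgroup.mem_top y) x
  let a : Fin n := ⟨0, by omega⟩
  let b : Fin n := ⟨1, by omega⟩
  let c : Fin n := ⟨2, by omega⟩
  let d : Fin n := ⟨3, by omega⟩
  have hab : a ≠ b := by simp [a, b]
  have hac : a ≠ c := by simp [a, c]
  have hbc : b ≠ c := by simp [b, c]
  have hbd : b ≠ d := by simp [b, d]
  have hcd : c ≠ d := by simp [c, d]
  have hev : ∀ x y z : Fin n, x ≠ y → x ≠ z → swap x z * swap x y ∈ alternatingGroup (Fin n) :=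
    fun x y z h1 h2 => by
      rw [Perm.mem_alternatingGroup, map_mul, Perm.sign_swap h2, Perm.sign_swap h1]
      rfl
  have := congrArg (fun p => (Subtype.val p : Perm (Fin n)) b)
    (hcomm ⟨_, hev a b c hab hac⟩ ⟨_, hev b c d hbc hbd⟩)
  simp only [MulMemClass.coe_mul, Perm.mul_apply, a, b, c, d] at this
  revert this
  simp [swap_apply_def, Fin.ext_iff]

theorem sym3_embed {r t : G} (hr : r ^ 3 = 1) (ht : t * t = 1) (hrt : t * r = r * r * t) (hr1 : r ≠ 1) :
    ∃ f : Perm (Fin 3) →* G, Function.Injective f ∧ r ∈ f.range ∧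
      ∀ c : G, Commute c r → Commute c t → ∀ a, Commute c (f a) := by
  have hcomm : ∀ k, t * r ^ k = r ^ (2 * k) * t := fun k => by
    induction k with
    | zero => simp
    | succ k ih =>
      rw [pow_succ, ← mul_assoc, ih, mul_assoc, hrt, show 2 * (k + 1) = 2 * k + 1 + 1 by ring, pow_succ, pow_succ]
      simp [mul_assoc]
  have hm : ∀ a, r ^ a = r ^ (a % 3) := fun a => pow_eq_pow_mod a hr
  let F : DihedralGroup 3 → G
    | .r i => r ^ i.val
    | .sr i => t * r ^ i.val
  have hv : ∀ i j : ZMod 3, (i + j).val = (i.val + j.val) % 3 ∧ (j - i).val = (2 * i.val + j.val) % 3 := by decide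
  let f : DihedralGroup 3 →* G := MonoidHom.mk' F (by
    rintro (i | i) (j | j)
    · rw [DihedralGroup.r_mul_r]
      show r ^ (i + j).val = r ^ i.val * r ^ j.val
      rw [← pow_add, (hv i j).1, ← hm]
    · rw [DihedralGroup.r_mul_sr]
      show t * r ^ (j - i).val = r ^ i.val * (t * r ^ j.val)
      have e : r ^ i.val * t = t * r ^ (2 * i.val) := by
        rw [hcomm, ← mul_assoc 2 2, hm (2 * 2 * _), hm i.val]
        congr 2
        omega
      rw [← mul_assoc, e, mul_assoc, ← pow_add, (hv i j).2, ← hm]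
    · rw [DihedralGroup.sr_mul_r]
      show t * r ^ (i + j).val = t * r ^ i.val * r ^ j.val
      rw [mul_assoc, ← pow_add, (hv i j).1, ← hm]
    · rw [DihedralGroup.sr_mul_sr]
      show r ^ (j - i).val = t * r ^ i.val * (t * r ^ j.val)
      rw [hcomm i.val, mul_assoc, ← mul_assoc t, ht, one_mul, ← pow_add, (hv i j).2, ← hm])
  let P : DihedralGroup 3 → Perm (Fin 3)
    | .r i => finRotate 3 ^ i.val
    | .sr i => swap 0 1 * finRotate 3 ^ i.val
  have hP : ∀ x y, P (x * y) = P x * P y := by decide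
  have hPi : Function.Injective P := by decide
  let e : DihedralGroup 3 ≃* Perm (Fin 3) := MulEquiv.ofBijective (MonoidHom.mk' P hP)
    (hPi.bijective_of_nat_card_le (by rw [DihedralGroup.nat_card, Nat.card_perm, Nat.card_fin]; rfl))
  have hrk : ∀ i : ZMod 3, r ^ i.val = 1 → i = 0 := fun i hi => by
    have h3 : orderOf r = 3 := by
      haveI := Fact.mk (by norm_num : Nat.Prime 3)
      exact orderOf_eq_prime hr hr1
    by_contra h0
    have hpos : 0 < i.val := Nat.pos_of_ne_zero fun q => h0 (ZMod.val_injective _ (by simpa using q))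
    have := Nat.le_of_dvd hpos (orderOf_dvd_of_pow_eq_one hi)
    have := i.val_lt
    omega
  refine ⟨f.comp e.symm.toMonoidHom, ?_, ⟨e (.r 1), ?_⟩, fun c hcr hct a => ?_⟩
  · show Function.Injective (⇑f ∘ ⇑e.symm)
    refine Function.Injective.comp ((injective_iff_map_eq_one f).2 ?_) e.symm.injective
    rintro (i | i) h
    · rw [hrk i h]; rfl
    · exfalso
      have e1 : t = (r ^ i.val)⁻¹ := eq_inv_of_mul_eq_one_left h
      have hc : Commute t r := e1 ▸ ((Commute.pow_self r i.val).inv_left)
      refine hr1 ?_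
      have := hc.eq.symm.trans hrt
      exact (mul_eq_left.1 (mul_right_cancel this).symm)
  · show f (e.symm (e (.r 1))) = r
    rw [e.symm_apply_apply]
    show r ^ (1 : ZMod 3).val = r
    rw [show (1 : ZMod 3).val = 1 from rfl, pow_one]
  · show Commute c (f (e.symm a))
    rcases e.symm a with i | i
    · exact hcr.pow_right _
    · exact hct.mul_right (hcr.pow_right _)

end Cfsg.Agent.Co1Local
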