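import Cfsg.Agent.Lib.Co1Local.Basic
import Cfsg.Agent.Lib.Co1Local.Homs

/-!
Centralisers in the quotient of elements of odd prime order, and the elements of checked words.
-/

set_option autoImplicit false
set_option linter.style.haveILetI false

namespace Cfsg.Agent.Co1Local

open Cfsg Cfsg.Agent.Leech
open Cfsg.Agent.Co1Out (Gen el GenOK prodEl)

theorem pr_surjective : Function.Surjective pr := QuotientGroup.mk'_surjective _

theorem comap_centralizer {g : Co0} {k : ℕ} (hk : g ^ (2 * k + 1) = 1) :
    (Subgroup.centralizer ({pr g} : Set Spor.Co1)).comap pr = Subgroup.centralizer ({g} : Set Co0) := by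
  ext c
  rw [Subgroup.mem_comap, Subgroup.mem_centralizer_singleton_iff, Subgroup.mem_centralizer_singleton_iff,
    ← map_mul, ← map_mul, pr_eq]
  refine or_iff_left_of_imp fun h => absurd ?_ negCo0_ne_one
  have e : c * g * c⁻¹ = negCo0 * g := by rw [h]; group
  have := congrArg (· ^ (2 * k + 1)) e
  simp only [conj_pow, hk, mul_one, mul_inv_cancel, (show Commute negCo0 g from negCo0_comm g).mul_pow] at this
  rw [pow_succ, pow_mul, pow_two, negCo0_sq, one_pow, one_mul] at this
  exact this.symm

theorem card_comap (H : Subgroup Spor.Co1) : Nat.card (H.comap pr) = 2 * Nat.card H := by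
  haveI := finite_Co0
  have h1 := (H.comap pr).card_mul_index
  rw [H.index_comap_of_surjective pr_surjective,
    Subgroup.card_eq_card_quotient_mul_card_subgroup (Subgroup.center Co0), Leech.card_center] at h1
  have h2 := H.card_mul_index
  have hi : 0 < H.index := Nat.pos_of_ne_zero H.index_ne_zero_of_finite
  refine mul_right_cancel₀ hi.ne' (h1.trans ?_)
  change Nat.card Spor.Co1 * 2 = _
  rw [← h2]
  ring

theorem card_cent {g : Co0} {k : ℕ} (hk : g ^ (2 * k + 1) = 1) :
    Nat.card (Subgroup.centralizer ({g} : Set Co0)) = 2 * Nat.card (Subgroup.centralizer ({pr g} : Set Spor.Co1)) := by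
  rw [← card_comap, comap_centralizer hk]

theorem prodEl_one (a : Gen) : prodEl [a] = el a.1 := by simp [prodEl]

theorem comm_of_same {a b : Gen} (ha : GenOK a) (hb : GenOK b) (h : Co1Out.sameOK [a, b] [b, a] 1 = true) :
    Commute (el a.1) (el b.1) := by
  have := Co1Out.eq_of_sameOK (Ls := [a, b]) (Rs := [b, a]) (by simp [ha, hb]) (by simp [ha, hb]) h
  simpa [prodEl, Commute, SemiconjBy] using this

theorem cube_of_same {a : Gen} (ha : GenOK a) (h : Co1Out.sameOK [a, a, a] [] 1 = true) : el a.1 ^ 3 = 1 := by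
  have := Co1Out.eq_of_sameOK (Ls := [a, a, a]) (Rs := []) (by simp [ha]) (by simp) h
  simpa [prodEl, pow_succ, mul_assoc] using this

theorem sq_of_same {a b : Gen} (ha : GenOK a) (hb : GenOK b) (h : Co1Out.sameOK [a, b, a, b] [] (-1) = true) :
    (pr (el a.1) * pr (el b.1)) ^ 2 = 1 ∧ (pr (el b.1) * pr (el a.1)) ^ 2 = 1 := by
  have := Co1Out.eq_neg_of_sameOK (Ls := [a, b, a, b]) (Rs := []) (by simp [ha, hb]) (by simp) h
  have e : (pr (el a.1) * pr (el b.1)) ^ 2 = 1 := by
    rw [← map_mul, ← map_pow, pr_eq_one]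
    exact Or.inr (by simpa [prodEl, pow_succ, mul_assoc] using this)
  exact ⟨e, BoundedPres.pair_symm e⟩

theorem ne_one_of_pairs {a b : Gen} (ha : GenOK a) (hb : GenOK b) (h : Co1Out.sameOK [a, b, a, b] [] (-1) = true)
    (h3 : el b.1 ^ 3 = 1) : pr (el a.1) ≠ 1 := by
  intro e
  have := Co1Out.eq_neg_of_sameOK (Ls := [a, b, a, b]) (Rs := []) (by simp [ha, hb]) (by simp) h
  have hb1 : pr (el b.1) = 1 := by
    have h2 := (sq_of_same ha hb h).1
    rw [e, one_mul] at h2
    have h3' : pr (el b.1) ^ 3 = 1 := by rw [← map_pow, h3, map_one]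
    rw [pow_succ, h2, one_mul] at h3'
    exact h3'
  obtain r | r := pr_eq_one.1 hb1
  · obtain q | q := pr_eq_one.1 e <;>
      simp [prodEl, r, q, negCo0_sq] at this <;> exact negCo0_ne_one (by simp [this])
  · rw [r, pow_succ, pow_two, negCo0_sq, one_mul] at h3
    exact negCo0_ne_one h3

end Cfsg.Agent.Co1Local
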