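import Cfsg.Agent.Lib.Co1Local.BoundW
import Cfsg.Agent.Lib.Co1Local.Lift

/-!
A subgroup of order three of the first Conway group whose normaliser is the product of the symmetric group of degree
three and the alternating group of degree nine.
-/

set_option autoImplicit false
set_option linter.style.haveILetI false
set_option maxRecDepth 20000

namespace Cfsg.Agent.Co1Local

open Cfsg Cfsg.Agent.Leech
open Cfsg.Agent.Co1Out (Gen el GenOK prodEl sameOK)
open Cfsg.Agent.PermCert (allBelow allBelow_spec)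

theorem bG_ok {i : ℕ} (hi : i < 7) : GenOK (bG i) := by
  have := allBelow_spec _ _ b_ok i hi
  simp only [Bool.and_eq_true] at this
  exact ⟨this.1.1, this.1.2, this.2⟩

theorem wG_ok : GenOK wG := w_ok
theorem tauG_ok : GenOK tauG := tau_ok

/-- The inverting involution. -/
noncomputable def t3 : Co0 := el tauG.1

attribute [local irreducible] Co1Out.el Co1Out.sameOK GenOK

theorem bG_facts {i : ℕ} (hi : i < 7) :
    Commute (el wG.1) (el (bG i).1) ∧ Commute t3 (el (bG i).1) ∧ el (bG i).1 ^ 3 = 1 := by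
  have := allBelow_spec _ _ b_comm i hi
  simp only [Bool.and_eq_true] at this
  exact ⟨comm_of_same wG_ok (bG_ok hi) this.1.1, comm_of_same tauG_ok (bG_ok hi) this.1.2,
    cube_of_same (bG_ok hi) this.2⟩

theorem w3_def : el wG.1 = w3 := rfl

theorem w3_rels : w3 ^ 3 = 1 ∧ t3 * t3 = 1 ∧ t3 * w3 = w3 * w3 * t3 := by
  obtain ⟨h1, h2, h3⟩ := w_rel
  refine ⟨w3_def ▸ cube_of_same wG_ok h1, ?_, ?_⟩
  · have := Co1Out.eq_of_sameOK (Ls := [tauG, tauG]) (Rs := []) (by simp [tauG_ok]) (by simp) h2
    simpa [prodEl, t3] using this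
  · have := Co1Out.eq_of_sameOK (Ls := [tauG, wG]) (Rs := [wG, wG, tauG]) (by simp [tauG_ok, wG_ok])
      (by simp [tauG_ok, wG_ok]) h3
    simpa [prodEl, t3, mul_assoc, ← w3_def] using this

set_option maxHeartbeats 1000000 in
theorem exists_three : ∃ W : Subgroup Spor.Co1, Nat.card W = 3 ∧
    Nonempty (↥(Subgroup.normalizer (W : Set Spor.Co1)) ≃* Equiv.Perm (Fin 3) × alternatingGroup (Fin 9)) := by
  haveI := finite_Co0
  haveI := Fact.mk (by norm_num : Nat.Prime 3)
  obtain ⟨hr0, ht0, hrt0⟩ := w3_rels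
  set v := pr w3 with hv
  set t := pr t3 with ht
  have hv3 : v ^ 3 = 1 := by rw [hv, ← map_pow, hr0, map_one]
  have ht2 : t * t = 1 := by rw [ht, ← map_mul, ht0, map_one]
  have htv : t * v = v * v * t := by rw [hv, ht, ← map_mul, ← map_mul, ← map_mul, hrt0]
  have hv1 : v ≠ 1 := by
    intro e
    obtain r | r := pr_eq_one.1 e
    · have h := w3_axis (pN 0)
      rw [r, one_smul] at h
      have e2 := (sgn_axis_inj (Or.inl rfl) (show (1 : ℤ) • axis (pN 0) = (1 : ℤ) • axis (sigP (pN 0)) by
        rw [one_smul, one_smul]; exact h)).1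
      have e3 : Golay.idx (pN 0) = Golay.idx (sigP (pN 0)) := congrArg Golay.idx e2
      rw [sigP_pN (by norm_num), idx_pN (by norm_num)] at e3
      exact absurd e3 (by decide +kernel)
    · have := hr0
      rw [r, pow_succ, pow_two, negCo0_sq, one_mul] at this
      exact negCo0_ne_one this
  have ho : orderOf v = 3 := orderOf_eq_prime hv3 hv1
  refine ⟨Subgroup.zpowers v, by rw [Nat.card_zpowers, ho], ?_⟩
  obtain ⟨f, hf, hfc⟩ := alt_embed (n := 9) (by norm_num) (fun i => pr (el (bG i).1))
    (fun i hi => by rw [← map_pow, (bG_facts hi).2.2, map_one])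
    (fun i hi j hj hij => by
      rcases lt_or_gt_of_ne hij with h | h
      · exact (sq_of_same (bG_ok hi) (bG_ok hj) (allBelow_spec _ _ (allBelow_spec _ _ b_pair j hj) i h)).1
      · exact (sq_of_same (bG_ok hj) (bG_ok hi) (allBelow_spec _ _ (allBelow_spec _ _ b_pair i hi) j h)).2)
    (ne_one_of_pairs (bG_ok (by norm_num)) (bG_ok (i := 1) (by norm_num))
      (allBelow_spec _ _ (allBelow_spec _ _ b_pair 1 (by norm_num)) 0 (by norm_num)) (bG_facts (by norm_num)).2.2)
  obtain ⟨s, hs, hsv, hsc⟩ := sym3_embed hv3 ht2 htv hv1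
  have hvf : ∀ a, Commute v (f a) := hfc v fun i hi => by
    rw [hv, commute_iff_eq, ← map_mul, ← map_mul, ← w3_def, (bG_facts hi).1.eq]
  have htf : ∀ a, Commute t (f a) := hfc t fun i hi => by
    rw [ht, commute_iff_eq, ← map_mul, ← map_mul, (bG_facts hi).2.1.eq]
  have hc : ∀ a b, Commute (s a) (f b) := fun a b => (hsc (f b) (hvf b).symm (htf b).symm a).symm
  set F := MonoidHom.noncommCoprod s f hc
  have hF : Function.Injective F := prod_embed (alt_center (by norm_num)) s f hs hf hc
  set N := Subgroup.normalizer ((Subgroup.zpowers v : Subgroup Spor.Co1) : Set Spor.Co1) with hN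
  set C := Subgroup.centralizer ({v} : Set Spor.Co1) with hC
  -- an element normalises when it centralises or inverts
  have hmem : ∀ g, g * v * g⁻¹ = v ∨ g * v * g⁻¹ = v⁻¹ → g ∈ N := by
    intro g hg
    have hmap : (Subgroup.zpowers v).map (MulAut.conj g).toMonoidHom = Subgroup.zpowers v := by
      rw [MonoidHom.map_zpowers]
      show Subgroup.zpowers (g * v * g⁻¹) = _
      rcases hg with e | e <;> rw [e]
      exact Subgroup.zpowers_inv
    rw [hN, Subgroup.mem_normalizer_iff]
    intro x
    conv_rhs => rw [← hmap]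
    exact (Subgroup.mem_map_iff_mem (f := (MulAut.conj g).toMonoidHom) (MulAut.conj g).injective).symm
  have hle : F.range ≤ N := by
    rintro _ ⟨⟨a, b⟩, rfl⟩
    show s a * f b ∈ N
    refine mul_mem ?_ (hmem _ (Or.inl (by rw [← (hvf b).eq, mul_inv_cancel_right])))
    have hgen : ∀ a, s a * v * (s a)⁻¹ = v ∨ s a * v * (s a)⁻¹ = v⁻¹ := by
      intro a
      obtain ⟨r, hr⟩ := hsv
      rw [← hr, ← map_mul, ← map_inv, ← map_mul, ← map_inv]
      have hr3 : r ^ 3 = 1 := hs (by rw [map_pow, hr, hv3, map_one])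
      have hr1 : r ≠ 1 := fun e => hv1 (by rw [← hr, e, map_one])
      exact ((by decide : ∀ a r : Equiv.Perm (Fin 3), r ^ 3 = 1 → r ≠ 1 → a * r * a⁻¹ = r ∨ a * r * a⁻¹ = r⁻¹)
        a r hr3 hr1).imp (congrArg s) (congrArg s)
    exact hmem _ (hgen a)
  have hr : Nat.card F.range = 1088640 := by
    have h := two_mul_nat_card_alternatingGroup (α := Fin 9)
    rw [Nat.card_perm, Nat.card_fin, show Nat.factorial 9 = 362880 from rfl] at h
    rw [← Nat.card_congr (MonoidHom.ofInjective hF).toEquiv, Nat.card_prod, Nat.card_perm, Nat.card_fin,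
      show Nat.factorial 3 = 6 from rfl]
    omega
  have hd := Subgroup.card_dvd_of_le hle
  rw [hr] at hd
  have hNC : Nat.card N ≤ 2 * Nat.card C := by
    let T : Set Spor.Co1 := {v, v⁻¹}
    letI : MulAction Spor.Co1 Spor.Co1 := MulAction.compHom Spor.Co1 (MulAut.conj (G := Spor.Co1))
    have := Leech.Five.card_le_mul_stab N v T (Set.toFinite _) fun g hg => by
      show g * v * g⁻¹ ∈ T
      have hx := (Subgroup.mem_normalizer_iff.1 hg v).1 (Subgroup.mem_zpowers v)
      obtain ⟨k, hk⟩ := Subgroup.mem_zpowers_iff.1 hx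
      have hk3 : v ^ k = v ^ (k % 3) := by
        rw [← zpow_mod_orderOf, ho]
        rfl
      rw [hk3] at hk
      rcases (show k % 3 = 0 ∨ k % 3 = 1 ∨ k % 3 = 2 by omega) with e | e | e <;> rw [e] at hk
      · rw [zpow_zero] at hk
        exact absurd (conj_eq_one_iff.1 hk.symm) hv1
      · exact Or.inl (by rw [← hk, zpow_one])
      · refine Or.inr (hk.symm.trans ?_)
        rw [eq_inv_iff_mul_eq_one, ← zpow_add_one]
        exact_mod_cast hv3
    refine this.trans (Nat.mul_le_mul ((Set.ncard_insert_le _ _).trans (by simp)) (Subgroup.card_le_of_le ?_))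
    intro g hg
    have e : g * v * g⁻¹ = v := hg.2
    rw [hC, Subgroup.mem_centralizer_singleton_iff]
    exact mul_inv_eq_iff_eq_mul.1 e
  have h2 := card_cent (g := w3) (k := 1) hr0
  have hlt := card_centralizer_w3
  rw [h2, ← hv, ← hC] at hlt
  have heq : F.range = N := Subgroup.eq_of_le_of_card_ge hle (by
    rw [hr]
    obtain ⟨m, hm⟩ := hd
    have : 0 < Nat.card N := Nat.card_pos
    have : m = 1 := by rw [hm] at this hNC; omega
    subst this
    omega)
  exact ⟨(MulEquiv.subgroupCongr heq.symm).trans (MonoidHom.ofInjective hF).symm⟩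

end Cfsg.Agent.Co1Local
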