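import Cfsg.Agent.Lib.Co1Local.SideV
import Cfsg.Agent.Lib.Co1Local.SideW

/-!
The two local subgroups in every group isomorphic to the first Conway group.
-/

set_option autoImplicit false
set_option linter.style.haveILetI false

namespace Cfsg.Agent.Co1Local

open Cfsg

theorem transport_centralizer {G H : Type*} [Group G] [Group H] (e : G ≃* H) (V : Subgroup G) :
    Nonempty (↥(Subgroup.centralizer ((V.map e.toMonoidHom : Subgroup H) : Set H)) ≃*
      ↥(Subgroup.centralizer (V : Set G))) := by
  have h : (Subgroup.centralizer (V : Set G)).map e.toMonoidHom =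
      Subgroup.centralizer ((V.map e.toMonoidHom : Subgroup H) : Set H) := by
    ext x
    rw [Subgroup.mem_map_equiv, Subgroup.mem_centralizer_iff, Subgroup.mem_centralizer_iff]
    constructor
    · intro hx y hy
      have := congrArg e (hx (e.symm y) (by
        obtain ⟨z, hz, rfl⟩ := hy
        simpa using hz))
      simpa using this
    · intro hx v hv
      apply e.injective
      simpa using hx (e v) (Subgroup.mem_map_of_mem _ hv)
  exact ⟨((e.subgroupMap (Subgroup.centralizer (V : Set G))).trans (MulEquiv.subgroupCongr h)).symm⟩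

theorem transport_normalizer {G H : Type*} [Group G] [Group H] (e : G ≃* H) (V : Subgroup G) :
    Nonempty (↥(Subgroup.normalizer ((V.map e.toMonoidHom : Subgroup H) : Set H)) ≃*
      ↥(Subgroup.normalizer (V : Set G))) := by
  have h : (Subgroup.normalizer (V : Set G)).map e.toMonoidHom =
      Subgroup.normalizer ((V.map e.toMonoidHom : Subgroup H) : Set H) := by
    ext x
    obtain ⟨g, rfl⟩ := e.surjective x
    rw [show e g = e.toMonoidHom g from rfl, Subgroup.mem_map_iff_mem e.injective, Subgroup.mem_normalizer_iff,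
      Subgroup.mem_normalizer_iff]
    show _ ↔ ∀ y, y ∈ V.map e.toMonoidHom ↔ e g * y * (e g)⁻¹ ∈ V.map e.toMonoidHom
    rw [e.surjective.forall]
    refine forall_congr' fun y => ?_
    rw [← map_inv, ← map_mul, ← map_mul, show e y = e.toMonoidHom y from rfl,
      show e (g * y * g⁻¹) = e.toMonoidHom (g * y * g⁻¹) from rfl,
      Subgroup.mem_map_iff_mem e.injective, Subgroup.mem_map_iff_mem e.injective]
  exact ⟨((e.subgroupMap (Subgroup.normalizer (V : Set G))).trans (MulEquiv.subgroupCongr h)).symm⟩

/-- The two local subgroups. -/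
theorem locals_of_iso {G : Type*} [Group G] (h : Spor.IsoCo1 G) :
    (∃ V : Subgroup G, Nat.card V = 7 ∧
      Nonempty (↥(Subgroup.centralizer (V : Set G)) ≃* Multiplicative (ZMod 7) × alternatingGroup (Fin 7))) ∧
    ∃ W : Subgroup G, Nat.card W = 3 ∧
      Nonempty (↥(Subgroup.normalizer (W : Set G)) ≃* Equiv.Perm (Fin 3) × alternatingGroup (Fin 9)) := by
  obtain ⟨e⟩ := h
  obtain ⟨V, hV, ⟨eV⟩⟩ := exists_seven
  obtain ⟨W, hW, ⟨eW⟩⟩ := exists_three
  obtain ⟨f⟩ := transport_centralizer e.symm V
  obtain ⟨g⟩ := transport_normalizer e.symm W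
  exact ⟨⟨_, (Nat.card_congr (e.symm.subgroupMap V).toEquiv).symm.trans hV, ⟨f.trans eV⟩⟩,
    ⟨_, (Nat.card_congr (e.symm.subgroupMap W).toEquiv).symm.trans hW, ⟨g.trans eW⟩⟩⟩

end Cfsg.Agent.Co1Local
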