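import Cfsg.Agent.Lib.Co1Local.BoundV
import Cfsg.Agent.Lib.Co1Local.Lift

/-!
A subgroup of order seven of the first Conway group whose centraliser is the product with the alternating group of
degree seven.
-/

set_option autoImplicit false
set_option linter.style.haveILetI false
set_option maxRecDepth 20000

namespace Cfsg.Agent.Co1Local

open Cfsg Cfsg.Agent.Leech
open Cfsg.Agent.Co1Out (Gen el GenOK prodEl sameOK)
open Cfsg.Agent.PermCert (allBelow allBelow_spec)

theorem aG_ok {i : ℕ} (hi : i < 5) : GenOK (aG i) := by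
  have := allBelow_spec _ _ a_ok i hi
  simp only [Bool.and_eq_true] at this
  exact ⟨this.1.1, this.1.2, this.2⟩

attribute [local irreducible] Co1Out.el Co1Out.sameOK GenOK

theorem aG_facts {i : ℕ} (hi : i < 5) : Commute g7 (el (aG i).1) ∧ el (aG i).1 ^ 3 = 1 := by
  have := allBelow_spec _ _ a_comm i hi
  simp only [Bool.and_eq_true] at this
  exact ⟨comm_of_same gG_ok (aG_ok hi) this.1, cube_of_same (aG_ok hi) this.2⟩

set_option maxHeartbeats 2000000 in
theorem exists_seven : ∃ V : Subgroup Spor.Co1, Nat.card V = 7 ∧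
    Nonempty (↥(Subgroup.centralizer (V : Set Spor.Co1)) ≃* Multiplicative (ZMod 7) × alternatingGroup (Fin 7)) := by
  haveI := finite_Co0
  haveI := Fact.mk (by norm_num : Nat.Prime 7)
  set v := pr g7 with hv
  have hv7 : v ^ 7 = 1 := by rw [hv, ← map_pow, g7_pow, map_one]
  have hv1 : v ≠ 1 := by
    intro e
    obtain r | r := pr_eq_one.1 e
    · have h : fv 3 = fv 0 := by
        rw [← fv_step (i := 2) (j := 3) rfl (by decide), ← fv_step (i := 1) (j := 2) rfl (by decide),
          ← fv_step (i := 0) (j := 1) rfl (by decide), r, one_smul, one_smul, one_smul]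
      have h2 := PairStab.ip_stdA_negB
      rw [← fv_zero.2, h, fv_zero.1, ip_stdA] at h2
      norm_num at h2
    · have := g7_pow
      rw [r, show (7 : ℕ) = 2 * 3 + 1 from rfl, pow_succ, pow_mul, pow_two, negCo0_sq, one_pow, one_mul] at this
      exact negCo0_ne_one this
  have ho : orderOf v = 7 := orderOf_eq_prime hv7 hv1
  refine ⟨Subgroup.zpowers v, by rw [Nat.card_zpowers, ho], ?_⟩
  obtain ⟨f, hf, hfc⟩ := alt_embed (n := 7) (by norm_num) (fun i => pr (el (aG i).1))
    (fun i hi => by rw [← map_pow, (aG_facts hi).2, map_one])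
    (fun i hi j hj hij => by
      rcases lt_or_gt_of_ne hij with h | h
      · exact (sq_of_same (aG_ok hi) (aG_ok hj) (allBelow_spec _ _ (allBelow_spec _ _ a_pair j hj) i h)).1
      · exact (sq_of_same (aG_ok hj) (aG_ok hi) (allBelow_spec _ _ (allBelow_spec _ _ a_pair i hi) j h)).2)
    (ne_one_of_pairs (aG_ok (by norm_num)) (aG_ok (i := 1) (by norm_num))
      (allBelow_spec _ _ (allBelow_spec _ _ a_pair 1 (by norm_num)) 0 (by norm_num)) (aG_facts (by norm_num)).2)
  have hvf : ∀ a, Commute v (f a) := hfc v fun i hi => by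
    rw [hv, commute_iff_eq, ← map_mul, ← map_mul, (aG_facts hi).1.eq]
  have hc : ∀ (a : Subgroup.zpowers v) b, Commute ((Subgroup.zpowers v).subtype a) (f b) := fun a b => by
    obtain ⟨k, hk⟩ := Subgroup.mem_zpowers_iff.1 a.2
    show Commute (a : Spor.Co1) (f b)
    rw [← hk]
    exact (hvf b).zpow_left k
  set F := MonoidHom.noncommCoprod (Subgroup.zpowers v).subtype f hc
  have hF : Function.Injective F :=
    prod_embed (alt_center (by norm_num)) _ f (Subgroup.subtype_injective _) hf hc
  set C := Subgroup.centralizer ({v} : Set Spor.Co1) with hC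
  have hCe : Subgroup.centralizer ((Subgroup.zpowers v : Subgroup Spor.Co1) : Set Spor.Co1) = C := by
    rw [Subgroup.zpowers_eq_closure, Subgroup.centralizer_closure]
  have hle : F.range ≤ C := by
    rintro _ ⟨⟨a, b⟩, rfl⟩
    rw [hC, Subgroup.mem_centralizer_singleton_iff]
    obtain ⟨k, hk⟩ := Subgroup.mem_zpowers_iff.1 a.2
    show (a : Spor.Co1) * f b * v = v * ((a : Spor.Co1) * f b)
    rw [← hk]
    exact ((Commute.refl v).zpow_left k).mul_left (hvf b).symm |>.eq
  have hr : Nat.card F.range = 17640 := by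
    have h := two_mul_nat_card_alternatingGroup (α := Fin 7)
    rw [Nat.card_perm, Nat.card_fin, show Nat.factorial 7 = 5040 from rfl] at h
    rw [← Nat.card_congr (MonoidHom.ofInjective hF).toEquiv, Nat.card_prod, Nat.card_zpowers, ho]
    omega
  have hd := Subgroup.card_dvd_of_le hle
  rw [hr] at hd
  have h2 := card_cent (g := g7) (k := 3) g7_pow
  have hlt := card_centralizer_g7
  rw [h2, ← hv, ← hC] at hlt
  have heq : F.range = C := Subgroup.eq_of_le_of_card_ge hle (by
    rw [hr]
    obtain ⟨m, hm⟩ := hd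
    have : 0 < Nat.card C := Nat.card_pos
    rw [hm] at hlt this ⊢
    have : m = 1 := by omega
    omega)
  rw [hCe]
  exact ⟨(MulEquiv.subgroupCongr heq.symm).trans ((MonoidHom.ofInjective hF).symm.trans
    (MulEquiv.prodCongr (mulEquivOfPrimeCardEq (p := 7) (by rw [Nat.card_zpowers, ho])
      (by simp)) (MulEquiv.refl _)))⟩

end Cfsg.Agent.Co1Local
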